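import Cfsg.Agent.H92.CoOneCentStruct
import Cfsg.Agent.Golay.CoTwoOut
import Cfsg.Agent.Components.Layer
import Cfsg.Agent.Components.Fitting

/-!
Word equalities in Co0 and the monomial kernel inside the centraliser of the octad involution.
-/

set_option autoImplicit false

namespace Cfsg.Agent.H41.CoSec

open Cfsg Cfsg.Agent.Golay Cfsg.Agent.H92.LeechOrbit
open Cfsg.Agent.H92.CoTwoCent (octInv InKer octSet coOct)
open Cfsg.Agent.H92.CoOneCent (centZero mem_centZero)

/-- The image of a code under a word. -/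
noncomputable def run : List Atom → ℕ → ℕ
  | [], n => n
  | a :: r, n => run r (appAtom a n)

/-- Two words agree on the generators. -/
noncomputable def eqOK (u v : List Atom) : Bool :=
  u.all atomOK && v.all atomOK &&
    CoTwo.genCodes.all fun n => chk u n (run u n) && chk v n (run u n)

/-- Equal words. -/
theorem eq_of_eqOK {u v : List Atom} (h : eqOK u v = true) : wordEl u = wordEl v := by
  simp only [eqOK, Bool.and_eq_true, List.all_eq_true] at h
  obtain ⟨⟨hu, hv⟩, hn⟩ := h
  refine (inv_mul_eq_one.1 (CoTwo.eq_one_of_gens fun n hn' x hx => ?_)).symm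
  have e1 := chk_sound (List.all_eq_true.2 hu) (hn n hn').1 hx
  have e2 := chk_sound (List.all_eq_true.2 hv) (hn n hn').2 hx
  rw [mul_smul, inv_smul_eq_iff]
  exact Subtype.ext (e1.trans e2.symm)

/-- A field in which the images differ. -/
noncomputable def neOK (u v : List Atom) (n : ℕ) : Bool :=
  chk u n (run u n) && chk v n (run v n) &&
    (List.range 24).any fun i => !Nat.beq (fld (run u n) i) (fld (run v n) i)

/-- Different words. -/
theorem ne_of_neOK {u v : List Atom} (hu : u.all atomOK = true) (hv : v.all atomOK = true) {n : ℕ}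
    (hn : inLeech (dec n) = true) (h : neOK u v n = true) : wordEl u ≠ wordEl v := by
  simp only [neOK, Bool.and_eq_true, List.any_eq_true, List.mem_range] at h
  obtain ⟨⟨h1, h2⟩, i, hi, hne⟩ := h
  intro e
  have e1 := chk_sound hu h1 (v := ⟨dec n, mem_of_inLeech hn⟩) rfl
  have e2 := chk_sound hv h2 (v := ⟨dec n, mem_of_inLeech hn⟩) rfl
  rw [e, e2] at e1
  have := congrFun e1 (pt i)
  simp only [dec, idx_pt i hi] at this
  rw [show fld (run v n) i = fld (run u n) i by omega, Nat.beq_refl] at hne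
  exact Bool.noConfusion hne

/-- The sign change on the complement of the octad, as a word. -/
def octWord : List Atom :=
  [.mono 8241104 (mk16 24 fun i => bif Nat.testBit 8241104 i then 1 else 0) idTbl]

/-- The negation, as a word. -/
def negWord : List Atom :=
  [.mono fullMask (mk16 24 fun i => bif fullMask.testBit i then 1 else 0) idTbl]

lemma oct_word_facts :
    octWord.all atomOK = true ∧ negWord.all atomOK = true ∧
    (fullMask ^^^ H92.CoTwoCent.octMask) = 8241104 ∧ inM24 idTbl = true := by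
  decide +kernel

lemma atom_id {s S : ℕ} (hok : atomOK (.mono s S idTbl) = true) (v : leechLattice) (p : GolayPt) :
    (atomEl (.mono s S idTbl) • v : leechLattice).1 p = if s.testBit (idx p) then -v.1 p else v.1 p := by
  have hv := idTbl_spec.1
  have happ : app idTbl (idx p) = idx p := by
    have h := congrArg (fun σ : Equiv.Perm GolayPt => idx (σ p)) idTbl_spec.2
    simp only [idx_mkPerm hv] at h
    exact h
  have := monoEl_apply hok v p
  rwa [happ, pt_idx] at this

theorem wordEl_octWord : wordEl octWord = octInv := by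
  have hok := oct_word_facts.1
  simp only [octWord, List.all_cons, List.all_nil, Bool.and_true] at hok
  rw [octWord, wordEl, wordEl, one_mul]
  refine Subtype.ext (Equiv.ext fun v => Subtype.ext (funext fun p => ?_))
  show (atomEl _ • v : leechLattice).1 p = (octInv • v).1 p
  rw [atom_id hok, H92.CoTwoCent.octInv_apply]
  have h : p ∉ octSet ↔ Nat.testBit 8241104 (idx p) = true := by
    rw [← H92.CoTwoCent.mem_coOct, ← oct_word_facts.2.2.1, show coOct.1 = ptSet (fullMask ^^^ H92.CoTwoCent.octMask) from rfl,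
      mem_ptSet]
  by_cases hp : p ∈ octSet
  · rw [if_pos hp, if_neg (by rw [← h]; exact not_not.2 hp)]
  · rw [if_neg hp, if_pos (h.1 hp)]

theorem wordEl_negWord : wordEl negWord = negAll := by
  have hok := oct_word_facts.2.1
  simp only [negWord, List.all_cons, List.all_nil, Bool.and_true] at hok
  rw [negWord, wordEl, wordEl, one_mul]
  refine Subtype.ext (Equiv.ext fun v => Subtype.ext (funext fun p => ?_))
  show (atomEl _ • v : leechLattice).1 p = (negAll • v : leechLattice).1 p
  rw [atom_id hok, negAll_apply, if_pos (by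
    rw [fullMask, Nat.testBit_two_pow_sub_one]; exact decide_eq_true (idx_lt p))]
  rfl

theorem negAll_comm (g : Co0) : negAll * g = g * negAll :=
  Subtype.ext (Equiv.ext fun v => by
    show negAll • g • v = g • negAll • v
    rw [negAll_apply, negAll_apply, co0_smul_neg])

theorem negAll_mem_center : negAll ∈ Subgroup.center Co0 :=
  Subgroup.mem_center_iff.2 fun g => (negAll_comm g).symm

theorem negAll_sq : negAll * negAll = 1 :=
  Subtype.ext (Equiv.ext fun v => by
    show negAll • negAll • v = v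
    rw [negAll_apply, negAll_apply, neg_neg])

/-! ### The kernel -/

/-- The elements of monomial kernel form. -/
noncomputable def kerSub : Subgroup Co0 := H92.CoTwoCent.rep.ker.map H92.CoTwoCent.cent.subtype

theorem mem_kerSub {g : Co0} : g ∈ kerSub ↔ InKer g := by
  constructor
  · rintro ⟨x, hx, rfl⟩
    exact (H92.CoTwoCent.rep_eq_one_iff x).1 (MonoidHom.mem_ker.1 hx)
  · intro h
    exact ⟨⟨g, H92.CoTwoCent.inKer_mem_cent h⟩,
      MonoidHom.mem_ker.2 ((H92.CoTwoCent.rep_eq_one_iff _).2 h), rfl⟩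

theorem kerSub_le : kerSub ≤ centZero := fun _ hg =>
  mem_centZero.2 (H92.CoTwoCent.mem_cent.1 (H92.CoTwoCent.inKer_mem_cent (mem_kerSub.1 hg))).2

theorem octInv_mem_kerSub : octInv ∈ kerSub := mem_kerSub.2 H92.CoTwoCent.inKer_octInv

theorem negAll_not_mem_kerSub : negAll ∉ kerSub := fun h =>
  H92.CoOneCent.negAll_not_inKer (mem_kerSub.1 h)

theorem kerSub_sq {g : Co0} (h : g ∈ kerSub) : g * g = 1 ∨ g * g = octInv :=
  H92.CoTwoCent.inKer_sq (mem_kerSub.1 h)

theorem oct_comm {g : Co0} (h : g ∈ centZero) : g * octInv = octInv * g := mem_centZero.1 h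

theorem kerSub_comm {g h : Co0} (hg : g ∈ kerSub) (hh : h ∈ kerSub) :
    g * h * g⁻¹ * h⁻¹ = 1 ∨ g * h * g⁻¹ * h⁻¹ = octInv := by
  have key := H92.CoTwoCent.commutator_cases (P := kerSub) (ζ := ⟨octInv, octInv_mem_kerSub⟩)
    (fun y => Subtype.ext (oct_comm (kerSub_le y.2)))
    (Subtype.ext H92.CoTwoCent.octInv_sq)
    (fun x => (kerSub_sq x.2).imp (fun e => Subtype.ext e) (fun e => Subtype.ext e)) ⟨g, hg⟩ ⟨h, hh⟩
  exact key.imp (fun e => congrArg Subtype.val e) (fun e => congrArg Subtype.val e)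

theorem kerSub_normal {g k : Co0} (hg : g ∈ centZero) (hk : k ∈ kerSub) : g * k * g⁻¹ ∈ kerSub := by
  rw [mem_kerSub]
  have hc : g * k * g⁻¹ ∈ centZero :=
    centZero.mul_mem (centZero.mul_mem hg (kerSub_le hk)) (centZero.inv_mem hg)
  have h1 : H92.CoOneCent.oRep ⟨g * k * g⁻¹, hc⟩ = 1 := by
    rw [show (⟨g * k * g⁻¹, hc⟩ : centZero) = ⟨g, hg⟩ * ⟨k, kerSub_le hk⟩ * ⟨g, hg⟩⁻¹ from rfl,
      map_mul, map_mul, map_inv,
      (H92.CoOneCent.oRep_eq_one_iff ⟨k, kerSub_le hk⟩).2 (Or.inl (mem_kerSub.1 hk)), mul_one,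
      mul_inv_cancel]
  rcases (H92.CoOneCent.oRep_eq_one_iff _).1 h1 with h | h
  · exact h
  exfalso
  have hu := (H92.CoTwoCent.mem_cent.1 (H92.CoTwoCent.inKer_mem_cent h)).1
  obtain ⟨σ, c, hσ, hc', hk'⟩ := mem_kerSub.1 hk
  have hsupp : H92.CoTwoCent.Supp (g⁻¹ • Spor.leechU).1 :=
    H92.CoOneCent.supp_smul (centZero.inv_mem hg) H92.CoTwoCent.leechU_supp
  rw [mul_smul, mul_smul, mul_smul, hk', H92.CoTwoCent.monoAut_fix hσ hc' hsupp, smul_inv_smul,
    negAll_apply] at hu
  have h2 := congrArg (fun v : leechLattice => v.1 none) hu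
  change -Spor.vecU none = Spor.vecU none at h2
  simp [Spor.vecU] at h2

/-- The kernel element of a sign mask and table. -/
def kAtom (k : ℕ × ℕ) : List Atom :=
  [.mono k.1 (mk16 24 fun i => bif k.1.testBit i then 1 else 0) k.2]

/-- Mask and table list of the kernel. -/
def kerList : List (ℕ × ℕ) :=
  H92.CoTwoCent.fixTbls.flatMap fun T => H92.CoTwoCent.offMasks.map fun m => (m, T)

theorem kAtom_eq {m T : ℕ} (hT : T ∈ H92.CoTwoCent.fixTbls) (hm : m ∈ H92.CoTwoCent.offMasks)
    (hok : (kAtom (m, T)).all atomOK = true) :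
    ∃ h1 h2, wordEl (kAtom (m, T))
      = monoAut ⟨mkPerm T, h1⟩ ⟨ptSet m, h2⟩ := by
  simp only [kAtom, List.all_cons, List.all_nil, Bool.and_true] at hok
  have hok' := hok
  simp only [atomOK, Bool.and_eq_true, decide_eq_true_eq] at hok'
  have hv := (H92.CoTwoCent.tbl_mem_fix hT).1
  refine ⟨mem_M24_of_inM24 hok'.1.2,
    by rw [supports_eq_image]; exact ⟨m, (H92.CoTwoCent.mask_mem hm).1, rfl⟩, ?_⟩
  rw [kAtom, wordEl, wordEl, one_mul]
  refine Subtype.ext (Equiv.ext fun v => Subtype.ext (funext fun p => ?_))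
  show (atomEl _ • v : leechLattice).1 p = (monoAut _ _ • v : leechLattice).1 p
  obtain ⟨q, rfl⟩ : ∃ q, mkPerm T q = p := (mkPerm T).surjective p
  rw [monoAut_smul_apply]
  simp only [Equiv.symm_apply_apply, mem_ptSet, idx_mkPerm hv]
  rw [mkPerm_apply hv]
  exact monoEl_apply hok v q

set_option maxRecDepth 4000 in
theorem exists_kList {g : Co0} (hg : g ∈ kerSub) (hok : kerList.all (fun k => (kAtom k).all atomOK) = true) :
    ∃ k ∈ kerList, g = wordEl (kAtom k) := by
  obtain ⟨σ, c, hσ, hc, rfl⟩ := mem_kerSub.1 hg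
  obtain ⟨T, hT, hTσ⟩ := H92.CoTwoCent.exists_tbl hσ
  obtain ⟨m, hm, hmc⟩ := H92.CoTwoCent.exists_mask c.2 hc
  have hmem : (m, T) ∈ kerList := List.mem_flatMap.2 ⟨T, hT, List.mem_map.2 ⟨m, hm, rfl⟩⟩
  refine ⟨_, hmem, ?_⟩
  obtain ⟨h1, h2, e⟩ := kAtom_eq hT hm (List.all_eq_true.1 hok _ hmem)
  rw [e]
  congr 1
  · exact Subtype.ext hTσ.symm
  · exact Subtype.ext hmc.symm

theorem kAtom_mem {k : ℕ × ℕ} (hk : k ∈ kerList) (hok : (kAtom k).all atomOK = true) :
    wordEl (kAtom k) ∈ kerSub := by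
  obtain ⟨T, hT, hk'⟩ := List.mem_flatMap.1 hk
  obtain ⟨m, hm, rfl⟩ := List.mem_map.1 hk'
  obtain ⟨h1, h2, e⟩ := kAtom_eq hT hm hok
  rw [mem_kerSub, e]
  exact ⟨_, _, (H92.CoTwoCent.tbl_mem_fix hT).2, (H92.CoTwoCent.mask_mem hm).2, rfl⟩

theorem kerList_ok : kerList.all (fun k => (kAtom k).all atomOK) = true := by decide +kernel

end Cfsg.Agent.H41.CoSec
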