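import Cfsg.Agent.H41.CoSec.Fixed

/-!
Two sided counting of the centraliser of a certified element.
-/

set_option autoImplicit false

namespace Cfsg.Agent.H41.CoSec

open Cfsg Cfsg.Agent.Golay Cfsg.Agent.H92.LeechOrbit Cfsg.Agent.Orthogonal
open Cfsg.Agent.H92.CoTwoCent (octInv)
open Cfsg.Agent.H92.CoOneCent (centZero mem_centZero oRep repMat bitVec matOf aCode aV qPlus)
open scoped Matrix

section Chain

variable {G α : Type*} [Group G] [Finite G]

/-- The elements of `K` fixing the points. -/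
def fixing (act : G → α → α) (K : Set G) (bs : List α) : Set G :=
  {g | g ∈ K ∧ ∀ b ∈ bs, act g b = b}

theorem ncard_step_le (act : G → α → α) (hone : ∀ b, act 1 b = b)
    (hmul : ∀ g h b, act (g * h) b = act g (act h b)) (K : Subgroup G) (pre : List α) (b : α)
    (s : Set α) (hs : s.Finite)
    (hcand : ∀ g ∈ fixing act K pre, act g b ∈ s) :
    (fixing act K pre).ncard ≤ s.ncard * (fixing act K (pre ++ [b])).ncard := by
  classical
  set A := fixing act K pre
  let r : α → G := fun x => if h : ∃ g ∈ A, act g b = x then h.choose else 1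
  have hr : ∀ g ∈ A, r (act g b) ∈ A ∧ act (r (act g b)) b = act g b := by
    intro g hg
    have h : ∃ k ∈ A, act k b = act g b := ⟨g, hg, rfl⟩
    simp only [r, dif_pos h]
    exact ⟨h.choose_spec.1, h.choose_spec.2⟩
  have hinv : ∀ k : G, ∀ x, act k x = x → act k⁻¹ x = x := fun k x hx => by
    conv_lhs => rw [← hx, ← hmul, inv_mul_cancel, hone]
  rw [← Set.ncard_prod]
  refine Set.ncard_le_ncard_of_injOn (fun g => (act g b, (r (act g b))⁻¹ * g)) ?_ ?_
    (hs.prod (Set.toFinite _))
  · intro g hg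
    obtain ⟨⟨hk1, hk2⟩, hk3⟩ := hr g hg
    refine ⟨hcand g hg, K.mul_mem (K.inv_mem hk1) hg.1, fun x hx => ?_⟩
    rw [hmul]
    rcases List.mem_append.1 hx with hx | hx
    · rw [hg.2 x hx, hinv _ x (hk2 x hx)]
    · rw [List.mem_singleton.1 hx]
      have e := congrArg (act (r (act g b))⁻¹) hk3
      rw [← hmul, inv_mul_cancel, hone] at e
      exact e.symm
  · intro g _ g' _ e
    simp only [Prod.mk.injEq] at e
    rw [e.1] at e
    exact mul_left_cancel e.2

theorem ncard_step_ge (act : G → α → α)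
    (hmul : ∀ g h b, act (g * h) b = act g (act h b)) (K : Subgroup G) (pre : List α) (b : α)
    {ι : Type*} [Fintype ι] (t : ι → G) (ht : ∀ i, t i ∈ fixing act K pre)
    (hinj : Function.Injective fun i => act (t i) b) :
    Fintype.card ι * (fixing act K (pre ++ [b])).ncard ≤ (fixing act K pre).ncard := by
  rw [← Nat.card_coe_set_eq, ← Nat.card_coe_set_eq, ← Nat.card_eq_fintype_card, ← Nat.card_prod]
  refine Nat.card_le_card_of_injective
    (fun q : ι × fixing act K (pre ++ [b]) => (⟨t q.1 * q.2.1,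
      K.mul_mem (ht q.1).1 q.2.2.1, fun x hx => by
        rw [hmul, q.2.2.2 x (List.mem_append.2 (Or.inl hx)), (ht q.1).2 x hx]⟩ : fixing act K pre)) ?_
  intro q q' e
  have e' : t q.1 * q.2.1 = t q'.1 * q'.2.1 := congrArg Subtype.val e
  have hb := congrArg (fun g => act g b) e'
  have hm : b ∈ pre ++ [b] := List.mem_append.2 (Or.inr (List.mem_singleton.2 rfl))
  simp only [hmul, q.2.2.2 b hm, q'.2.2.2 b hm] at hb
  have h1 := hinj hb
  rw [h1] at e'
  exact Prod.ext h1 (Subtype.ext (mul_left_cancel e'))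

end Chain

lemma testBit_foldr_pow : ∀ {l : List ℕ}, l.Nodup → ∀ k,
    (l.foldr (fun j a => 2 ^ j ^^^ a) 0).testBit k = decide (k ∈ l)
  | [], _, k => by simp
  | j :: l, h, k => by
    rw [List.nodup_cons] at h
    rw [List.foldr_cons, Nat.testBit_xor, testBit_foldr_pow h.2 k, Nat.testBit_two_pow]
    by_cases hk : j = k
    · subst hk; simp [h.1]
    · simp [hk, Ne.symm hk]

lemma vecW_foldr (w : ℕ) : ∀ (l : List ℕ),
    vecW w (l.foldr (· ^^^ ·) 0) = (l.map (vecW w)).sum
  | [] => vecW_zero w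
  | a :: l => by rw [List.foldr_cons, vecW_xor, vecW_foldr w l, List.map_cons, List.sum_cons]

namespace Params

variable {P : Params}

/-- A generator. -/
noncomputable def gEl (P : Params) (i : ℕ) : Co0 := wordEl (P.gWord i)

/-- A product of generators. -/
noncomputable def lEl (P : Params) (l : List ℕ) : Co0 := (l.map P.gEl).prod

theorem prodWord_spec (h : P.Checked) {v : ℕ} (hv : v < 2 ^ P.dim) (e : Bool) :
    wordEl (P.prodWord v e) ∈ P.fixQ ∧ P.pc (wordEl (P.prodWord v e)) = vecW P.w v := by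
  have key : ∀ l : List ℕ, (∀ j ∈ l, j < 2 * P.w + 2) →
      wordEl (l.flatMap P.yWord) ∈ P.fixQ ∧
        P.pc (wordEl (l.flatMap P.yWord)) = vecW P.w (l.foldr (fun j a => 2 ^ j ^^^ a) 0) := by
    intro l hl
    induction l with
    | nil => exact ⟨one_mem _, by rw [List.flatMap_nil,
        show wordEl ([] : List Atom) = 1 from rfl, pc_one, List.foldr_nil, vecW_zero]⟩
    | cons j l ih =>
      obtain ⟨i, rfl⟩ := exists_pos (hl j (List.mem_cons_self ..))
      obtain ⟨hm, hp⟩ := ih fun k hk => hl k (List.mem_cons_of_mem _ hk)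
      have hy := y_mem h i
      rw [List.flatMap_cons, CoTwo.wordEl_append]
      refine ⟨mul_mem hm hy, ?_⟩
      change P.pc (_ * P.y i) = _
      rw [pc_mul h hm hy, hp, pc_y h, List.foldr_cons, vecW_xor, vecW_two_pow, add_comm]
  set l := (List.range P.dim).reverse.filter fun j => v.testBit j
  have hl : ∀ j ∈ l, j < 2 * P.w + 2 := fun j hj =>
    List.mem_range.1 (List.mem_reverse.1 (List.mem_of_mem_filter hj))
  have hval : l.foldr (fun j a => 2 ^ j ^^^ a) 0 = v := by
    refine Nat.eq_of_testBit_eq fun k => ?_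
    rw [testBit_foldr_pow ((List.nodup_reverse.2 List.nodup_range).filter _) k]
    by_cases hk : k < P.dim
    · simp [l, List.mem_filter, hk]
    · have hf : v.testBit k = false :=
        Nat.testBit_lt_two_pow (hv.trans_le (Nat.pow_le_pow_right (by norm_num) (not_lt.1 hk)))
      simp [l, List.mem_filter, hk, hf]
  obtain ⟨hm, hp⟩ := key l hl
  rw [hval] at hp
  rw [prodWord, CoTwo.wordEl_append]
  cases e
  · rw [cond_false, show wordEl ([] : List Atom) = 1 from rfl, mul_one]
    exact ⟨hm, hp⟩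
  · rw [cond_true, wordEl_octWord]
    exact ⟨mul_mem hm (oct_mem_fixQ h), by rw [pc_mul h hm (oct_mem_fixQ h), hp, pc_oct h, add_zero]⟩

theorem gEl_mem (h : P.Checked) (i : Fin P.gens.length) : P.gEl i.1 ∈ P.pairC := by
  obtain ⟨ha, ho, -, -⟩ := h.gens i
  have e1 := eq_of_eqOK ha
  have e2 := eq_of_eqOK ho
  rw [CoTwo.wordEl_append, CoTwo.wordEl_append] at e1 e2
  rw [wordEl_octWord] at e2
  exact mem_pairC.2 ⟨mem_centZero.2 e2, e1⟩

theorem gCols_lt (h : P.Checked) (i : Fin P.gens.length) (j : Ix P.w) :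
    ((P.gens.getD i.1 ([], [])).2.getD (pos j) (0, false)).1 < 2 ^ P.dim := by
  by_cases hl : pos j < ((P.gens.getD i.1 ([], [])).2).length
  · have hp : 2 ^ pos j < 2 ^ P.dim := Nat.pow_lt_pow_right (by norm_num) (pos_lt j)
    have := ((h.gens i).2.2.2 ⟨2 ^ pos j, hp⟩).1
    have key : ∀ (c : List ℕ) (k : ℕ), mvC c (2 ^ k) = c.getD k 0 := by
      intro c
      induction c with
      | nil => intro k; simp [mvC]
      | cons a c ih =>
        intro k
        cases k with
        | zero =>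
          have hz : ∀ c : List ℕ, mvC c 0 = 0 := by
            intro c; induction c with
            | nil => rfl
            | cons b c ih => simp [mvC, ih]
          simp [mvC, hz]
        | succ k =>
          have h0 : (2 ^ (k + 1)).testBit 0 = false := by
            rw [Nat.testBit_two_pow]; exact decide_eq_false (by omega)
          rw [mvC, h0, cond_false, Nat.zero_xor, show 2 ^ (k + 1) >>> 1 = 2 ^ k by
            rw [Nat.shiftRight_eq_div_pow, pow_succ, pow_one, Nat.mul_div_cancel _ (by norm_num)],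
            ih k, List.getD_cons_succ]
    simp only [gCols, key] at this
    rw [List.getD_eq_getElem _ _ (by simpa using hl), List.getElem_map] at this
    rw [List.getD_eq_getElem _ _ hl]
    exact this
  · rw [List.getD_eq_default _ _ (not_lt.1 hl)]
    exact pow_pos (by norm_num) _

theorem cMat_gEl (h : P.Checked) (i : Fin P.gens.length) {v : ℕ} (hv : v < 2 ^ P.dim) :
    mvC (P.gCols i.1) v < 2 ^ P.dim ∧
      P.cMat (P.gEl i.1) *ᵥ vecW P.w v = vecW P.w (mvC (P.gCols i.1) v) := by
  obtain ⟨-, -, hy, hc⟩ := h.gens i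
  obtain ⟨h1, h2⟩ := hc ⟨v, hv⟩
  refine ⟨h1, ?_⟩
  rw [← h2]
  congr 1
  refine Matrix.ext fun r c => ?_
  show P.pc (P.gEl i.1 * P.y c * (P.gEl i.1)⁻¹) r = _
  have e := eq_of_eqOK (hy c)
  rw [CoTwo.wordEl_append, CoTwo.wordEl_append] at e
  change P.gEl i.1 * P.y c = _ * P.gEl i.1 at e
  rw [e, mul_inv_cancel_right, (prodWord_spec h (gCols_lt h i c) _).2]
  rfl

/-- The action on vectors. -/
noncomputable def actP (h : P.Checked) (g : P.pairC) (v : Ix P.w → ZMod 2) : Ix P.w → ZMod 2 :=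
  ((psi h g : Matrix.GeneralLinearGroup (Ix P.w) (ZMod 2)) : Matrix (Ix P.w) (Ix P.w) (ZMod 2)) *ᵥ v

theorem lEl_spec (h : P.Checked) : ∀ {l : List ℕ}, (∀ i ∈ l, i < P.gens.length) →
    P.lEl l ∈ P.pairC ∧ ∀ {v : ℕ}, v < 2 ^ P.dim →
      P.actW l v < 2 ^ P.dim ∧ P.cMat (P.lEl l) *ᵥ vecW P.w v = vecW P.w (P.actW l v)
  | [], _ => ⟨one_mem _, fun {v} hv => ⟨hv, by
      rw [show P.lEl [] = ((1 : P.pairC) : Co0) from rfl,
        show P.cMat ((1 : P.pairC) : Co0) = cHom h 1 from rfl, map_one, Matrix.one_mulVec]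
      rfl⟩⟩
  | i :: l, hl => by
    obtain ⟨hm, hv'⟩ := lEl_spec h (l := l) fun k hk => hl k (List.mem_cons_of_mem _ hk)
    have hi := hl i (List.mem_cons_self ..)
    have hg := gEl_mem h ⟨i, hi⟩
    have he : P.lEl (i :: l) = P.gEl i * P.lEl l := by rw [lEl, List.map_cons, List.prod_cons]; rfl
    refine ⟨he ▸ mul_mem hg hm, fun {v} hv => ?_⟩
    obtain ⟨h1, h2⟩ := hv' hv
    obtain ⟨h3, h4⟩ := cMat_gEl h ⟨i, hi⟩ h1
    refine ⟨h3, ?_⟩
    rw [he, show P.gEl i * P.lEl l = ((⟨_, hg⟩ * ⟨_, hm⟩ : P.pairC) : Co0) from rfl,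
      show P.cMat ((⟨_, hg⟩ * ⟨_, hm⟩ : P.pairC) : Co0) = cHom h (⟨_, hg⟩ * ⟨_, hm⟩) from rfl,
      map_mul, ← Matrix.mulVec_mulVec]
    show P.cMat (P.gEl i) *ᵥ (P.cMat (P.lEl l) *ᵥ _) = _
    rw [h2, h4]
    rfl

/-- The points of the lower chain. -/
def lowPts (P : Params) : List (Ix P.w → ZMod 2) := P.low.map fun e => vecW P.w e.1

theorem lowCard_le (h : P.Checked) : P.lowCard ≤ Nat.card (psi h).range := by
  haveI : Finite ↥Co0 := finite_co0
  haveI : Finite (Cfsg.isometryGroup (ZMod 2) (Cfsg.quadFormMinus P.w (ZMod 2) 1 1)) :=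
    Finite.of_injective _ Subtype.val_injective
  let act : Cfsg.isometryGroup (ZMod 2) (Cfsg.quadFormMinus P.w (ZMod 2) 1 1) →
      (Ix P.w → ZMod 2) → (Ix P.w → ZMod 2) := fun g v =>
    ((g : Matrix.GeneralLinearGroup (Ix P.w) (ZMod 2)) : Matrix (Ix P.w) (Ix P.w) (ZMod 2)) *ᵥ v
  have hmul : ∀ g k b, act (g * k) b = act g (act k b) := fun g k b => by
    simp only [act, Subgroup.coe_mul, Units.val_mul, Matrix.mulVec_mulVec]
  have key : ∀ d k, k + d = P.low.length →
      ((P.low.drop k).map fun e => e.2.length).prod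
        ≤ (fixing act ((psi h).range : Set _) ((P.lowPts).take k)).ncard := by
    intro d
    induction d with
    | zero =>
      intro k hk
      rw [List.drop_eq_nil_of_le (by omega), List.map_nil, List.prod_nil]
      refine (Set.ncard_pos (Set.toFinite _)).2 ⟨1, one_mem _, fun b _ => ?_⟩
      simp [act]
    | succ d ih =>
      intro k hk
      have hlt : k < P.low.length := by omega
      obtain ⟨hb, hnd, hfix⟩ := h.low ⟨k, hlt⟩
      simp only at hb hnd hfix
      have hd : P.low.getD k (0, []) = P.low[k] := List.getD_eq_getElem _ _ hlt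
      rw [hd] at hb hnd hfix
      have hsplit : (P.lowPts).take (k + 1) = (P.lowPts).take k ++ [vecW P.w P.low[k].1] := by
        simp only [lowPts]
        rw [List.take_add_one, List.getElem?_eq_getElem (by simpa using hlt), List.getElem_map]
        rfl
      rw [List.drop_eq_getElem_cons hlt, List.map_cons, List.prod_cons]
      refine le_trans (Nat.mul_le_mul_left _ (hsplit ▸ ih (k + 1) (by omega))) ?_
      have hT : ∀ j : Fin P.low[k].2.length, ∀ x ∈ P.low[k].2[j.1], x < P.gens.length := by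
        intro j x hx
        have := List.all_eq_true.1 hfix _ (List.getElem_mem j.2)
        rw [Bool.and_eq_true] at this
        exact of_decide_eq_true (List.all_eq_true.1 this.1 x hx)
      let t : Fin P.low[k].2.length → Cfsg.isometryGroup (ZMod 2) (Cfsg.quadFormMinus P.w (ZMod 2) 1 1) :=
        fun j => psi h ⟨P.lEl P.low[k].2[j.1], (lEl_spec h (hT j)).1⟩
      have hact : ∀ j {v}, v < 2 ^ P.dim →
          act (t j) (vecW P.w v) = vecW P.w (P.actW P.low[k].2[j.1] v) := fun j v hv => by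
        show P.cMat _ *ᵥ _ = _
        exact ((lEl_spec h (hT j)).2 hv).2
      have := ncard_step_ge act hmul (psi h).range ((P.lowPts).take k) (vecW P.w P.low[k].1) t
        (fun j => by
          refine ⟨⟨_, rfl⟩, fun b hb' => ?_⟩
          obtain ⟨l, hl, rfl⟩ := List.getElem_of_mem hb'
          simp only [List.length_take, lowPts, List.length_map] at hl
          simp only [lowPts, List.getElem_take, List.getElem_map]
          have := List.all_eq_true.1 hfix _ (List.getElem_mem j.2)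
          rw [Bool.and_eq_true] at this
          have e := List.all_eq_true.1 this.2 l (List.mem_range.2 (by omega))
          rw [beq_iff_eq, List.getD_eq_getElem _ _ (by omega)] at e
          have hbl := (h.low ⟨l, by omega⟩).1
          simp only at hbl
          rw [List.getD_eq_getElem _ _ (by omega)] at hbl
          rw [hact j hbl, e])
        (fun j j' e => by
          simp only [hact _ hb] at e
          have e' := vecW_injective ((lEl_spec h (hT j)).2 hb).1 ((lEl_spec h (hT j')).2 hb).1 e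
          have h2 := List.pairwise_iff_getElem.1 hnd
          rcases lt_trichotomy j.1 j'.1 with l | l | l
          · exact absurd (by simpa using e') (h2 j.1 j'.1 (by simp) (by simp) l)
          · exact Fin.ext l
          · exact absurd (by simpa using e'.symm) (h2 j'.1 j.1 (by simp) (by simp) l))
      rwa [Fintype.card_fin] at this
  have h0 := key P.low.length 0 (zero_add _)
  rw [List.drop_zero, List.take_zero] at h0
  refine h0.trans (le_of_eq ?_)
  rw [← Nat.card_coe_set_eq]
  refine Nat.card_congr (Equiv.subtypeEquivRight fun g => ?_)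
  simp [fixing]

/-! ### The upper bound -/

lemma bitVec_xor (x y : ℕ) : bitVec (x ^^^ y) = bitVec x + bitVec y := by
  funext k
  simp only [bitVec, Pi.add_apply, Nat.testBit_xor]
  cases x.testBit _ <;> cases y.testBit _ <;> decide

lemma bitVec_facts :
    (∀ u : Fin 4 ⊕ Fin 4 → ZMod 2, ∃ n : Fin 256, bitVec n.1 = u) ∧
    (∀ n : Fin 256, qPlus (bitVec n.1) = if qC n.1 then 1 else 0) := by
  refine ⟨?_, ?_⟩
  · intro u
    have hb : Function.Injective fun n : Fin 256 => bitVec n.1 := by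
      intro a b e
      refine Fin.ext (Nat.eq_of_testBit_eq fun k => ?_)
      by_cases hk : k < 8
      · have hs : ∀ k : Fin 8, ∃ l, (H92.CoOneCent.ek4 l).1 = k.1 := by decide
        obtain ⟨l, hl⟩ := hs ⟨k, hk⟩
        have := congrFun e l
        simp only [bitVec, hl] at this
        cases h1 : a.1.testBit k <;> cases h2 : b.1.testBit k <;> simp [h1, h2] at this ⊢
      · have hle : 256 ≤ 2 ^ k := by
          calc 256 = 2 ^ 8 := by norm_num
            _ ≤ _ := Nat.pow_le_pow_right (by norm_num) (by omega)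
        rw [Nat.testBit_lt_two_pow (a.2.trans_le hle), Nat.testBit_lt_two_pow (b.2.trans_le hle)]
    have hc : Fintype.card (Fin 256) = Fintype.card (Fin 4 ⊕ Fin 4 → ZMod 2) := by simp
    exact ((Fintype.bijective_iff_injective_and_card _).2 ⟨hb, hc⟩).2 u
  · have : ∀ n : Fin 256, Cfsg.quadFormPlus 4 (ZMod 2) (bitVec n.1) = if qC n.1 then 1 else 0 := by
      decide +kernel
    exact this

lemma bitVec_inj {a b : ℕ} (ha : a < 256) (hb : b < 256) (e : bitVec a = bitVec b) : a = b := by
  have hbij : Function.Injective fun n : Fin 256 => bitVec n.1 :=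
    ((Fintype.bijective_iff_surjective_and_card _).2 ⟨bitVec_facts.1, by simp⟩).1
  exact congrArg Fin.val (hbij (a₁ := ⟨a, ha⟩) (a₂ := ⟨b, hb⟩) e)

theorem oRep_a (h : P.Checked) {v : ℕ} (hv : v < 256) :
    ((oRep ⟨P.a, a_mem_centZero h⟩ : O qPlus) : _ ≃ₗ[ZMod 2] _) (bitVec v) = bitVec (mvC P.aCols v)
      ∧ mvC P.aCols v < 256 := by
  obtain ⟨-, -, hok, -, -, himg, hm, -⟩ := h.a
  obtain ⟨h1, h2⟩ := hm ⟨v, hv⟩
  refine ⟨?_, h2⟩
  rw [H92.CoOneCent.oRep_apply, ← h1]
  congr 1
  refine Matrix.ext fun k l => ?_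
  show ((dotInt (P.a • aV (H92.CoOneCent.ek4 l)).1 (aV (H92.CoOneCent.ek4 k.swap)).1 / 16 : ℤ) : ZMod 2) = _
  rw [show (P.a • aV (H92.CoOneCent.ek4 l)).1 = dec (P.aImg.getD (H92.CoOneCent.ek4 l).1 0) from
    chk_sound hok (himg _) rfl]
  rfl

theorem oRep_aPow (h : P.Checked) {v : ℕ} (hv : v < 256) : ∀ i : ℕ,
    (((oRep ⟨P.a, a_mem_centZero h⟩ : O qPlus) ^ i : O qPlus) : _ ≃ₗ[ZMod 2] _) (bitVec v)
      = bitVec (P.aPow i v) ∧ P.aPow i v < 256
  | 0 => ⟨by rw [pow_zero]; rfl, hv⟩
  | i + 1 => by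
    obtain ⟨h1, h2⟩ := oRep_aPow h hv i
    obtain ⟨h3, h4⟩ := oRep_a h h2
    have e : P.aPow (i + 1) v = mvC P.aCols (P.aPow i v) := Function.iterate_succ_apply' _ _ _
    rw [e, pow_succ', Subgroup.coe_mul, mul_app, h1]
    exact ⟨h3, h4⟩

/-- The range on the octad space. -/
noncomputable def oRange (P : Params) : Subgroup (O qPlus) :=
  (oRep.comp (Subgroup.inclusion (inf_le_left : P.pairC ≤ centZero))).range

theorem oRange_comm (h : P.Checked) {g : O qPlus} (hg : g ∈ P.oRange) :
    g * oRep ⟨P.a, a_mem_centZero h⟩ = oRep ⟨P.a, a_mem_centZero h⟩ * g := by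
  obtain ⟨x, rfl⟩ := hg
  show oRep _ * oRep _ = oRep _ * oRep _
  rw [← map_mul, ← map_mul]
  exact congrArg oRep (Subtype.ext (mem_pairC.1 x.2).2)

theorem cand_spec (h : P.Checked) {g : O qPlus} (hg : g ∈ P.oRange) {pre : List ℕ}
    (hpre : ∀ u ∈ pre, u < 256)
    (hfix : ∀ u ∈ pre, (g : _ ≃ₗ[ZMod 2] _) (bitVec u) = bitVec u)
    {b x : ℕ} (hb : b < 256) (hx : x < 256) (hgb : (g : _ ≃ₗ[ZMod 2] _) (bitVec b) = bitVec x) :
    P.cand pre b x = true := by
  have hq : ∀ {u v}, u < 256 → v < 256 → qPlus (bitVec u) = qPlus (bitVec v) → qC u = qC v := by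
    intro u v hu hv e
    rw [bitVec_facts.2 ⟨u, hu⟩, bitVec_facts.2 ⟨v, hv⟩] at e
    revert e
    cases qC u <;> cases qC v <;> decide
  have happ : ∀ i {u v}, u < 256 → v < 256 → (g : _ ≃ₗ[ZMod 2] _) (bitVec u) = bitVec v →
      (g : _ ≃ₗ[ZMod 2] _) (bitVec (P.aPow i u)) = bitVec (P.aPow i v) := by
    intro i u v hu hv e
    have hc : g * (oRep ⟨P.a, a_mem_centZero h⟩) ^ i = (oRep ⟨P.a, a_mem_centZero h⟩) ^ i * g :=
      (Commute.pow_right (oRange_comm h hg) i)
    rw [← (oRep_aPow h hu i).1, ← (oRep_aPow h hv i).1, ← e, ← mul_app, ← mul_app,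
      ← Subgroup.coe_mul, ← Subgroup.coe_mul, hc]
  have hqb : qC x = qC b := hq hx hb (by rw [← hgb, O.map_app])
  have hxor : ∀ {u v}, u < 256 → v < 256 → u ^^^ v < 256 := fun hu hv =>
    Nat.xor_lt_two_pow (n := 8) hu hv
  have hpol : ∀ {u v u' v'}, u < 256 → v < 256 → u' < 256 → v' < 256 →
      (g : _ ≃ₗ[ZMod 2] _) (bitVec u) = bitVec u' → (g : _ ≃ₗ[ZMod 2] _) (bitVec v) = bitVec v' →
      bC u' v' = bC u v := by
    intro u v u' v' hu hv hu' hv' e e'
    have e'' : (g : _ ≃ₗ[ZMod 2] _) (bitVec (u ^^^ v)) = bitVec (u' ^^^ v') := by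
      rw [bitVec_xor, bitVec_xor, map_add, e, e']
    simp only [bC, hq hu' hu (by rw [← e, O.map_app]), hq hv' hv (by rw [← e', O.map_app]),
      hq (hxor hu' hv') (hxor hu hv) (by rw [← e'', O.map_app])]
  simp only [cand, Bool.and_eq_true, beq_iff_eq, List.all_eq_true, List.mem_range]
  refine ⟨hqb, fun i _ => ⟨?_, fun u hu => ?_⟩⟩
  · exact hpol hb (oRep_aPow h hb i).2 hx (oRep_aPow h hx i).2 hgb (happ i hb hx hgb)
  · exact hpol hb (oRep_aPow h (hpre u hu) i).2 hx (oRep_aPow h (hpre u hu) i).2 hgb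
      (happ i (hpre u hu) (hpre u hu) (hfix u hu))

theorem oRange_le (h : P.Checked) : Nat.card P.oRange ≤ P.upCard := by
  haveI : Finite ↥Co0 := finite_co0
  haveI : Finite (O qPlus) := Finite.of_injective _ (toO qPlus).symm.injective
  let act : O qPlus → (Fin 4 ⊕ Fin 4 → ZMod 2) → (Fin 4 ⊕ Fin 4 → ZMod 2) := fun g v =>
    (g : _ ≃ₗ[ZMod 2] _) v
  have hmul : ∀ g k b, act (g * k) b = act g (act k b) := fun g k b => by
    simp only [act, Subgroup.coe_mul, mul_app]
  let pts : List (Fin 4 ⊕ Fin 4 → ZMod 2) := P.up.map fun e => bitVec e.1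
  have key : ∀ d k, k + d = P.up.length →
      (fixing act (P.oRange : Set _) (pts.take k)).ncard ≤ ((P.up.drop k).map Prod.snd).prod := by
    intro d
    induction d with
    | zero =>
      intro k hk
      rw [List.drop_eq_nil_of_le (by omega), List.map_nil, List.prod_nil,
        List.take_of_length_le (by simp [pts]; omega)]
      refine (Set.ncard_le_ncard (t := {1}) ?_).trans (Set.ncard_singleton _).le
      rintro g ⟨hg, hfix⟩
      refine Set.mem_singleton_iff.2 (O.ext_app fun u => ?_)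
      obtain ⟨n, rfl⟩ := bitVec_facts.1 u
      show act g (bitVec n.1) = bitVec n.1
      have hsum : ∀ l : List ℕ, (∀ x ∈ l, act g (bitVec x) = bitVec x) →
          act g (bitVec (l.foldr (· ^^^ ·) 0)) = bitVec (l.foldr (· ^^^ ·) 0) := by
        intro l hl
        induction l with
        | nil =>
          have : bitVec (([] : List ℕ).foldr (· ^^^ ·) 0) = 0 := by funext k; simp [bitVec]
          simp only [act, this, map_zero]
        | cons a l ih =>
          rw [List.foldr_cons, bitVec_xor]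
          simp only [act, map_add]
          rw [show (g : _ ≃ₗ[ZMod 2] _) (bitVec a) = bitVec a from hl a (List.mem_cons_self ..),
            show (g : _ ≃ₗ[ZMod 2] _) (bitVec _) = bitVec _ from
              ih fun x hx => hl x (List.mem_cons_of_mem _ hx)]
      have hunit : ∀ l : Fin 8, act g (bitVec (2 ^ l.1)) = bitVec (2 ^ l.1) := by
        intro l
        obtain ⟨hlen, he⟩ := h.up.2 l
        rw [← he]
        refine hsum _ fun x hx => ?_
        obtain ⟨e, hem, rfl⟩ := List.mem_map.1 hx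
        have hel : e.1 < P.up.length := of_decide_eq_true (List.all_eq_true.1 hlen e hem)
        rw [List.getD_eq_getElem _ _ hel]
        have hb : (P.up[e.1]).1 < 256 := by
          have := (h.up.1 ⟨e.1, hel⟩).1
          simpa only [List.getD_eq_getElem _ _ hel] using this
        have hf : act g (bitVec (P.up[e.1]).1) = bitVec (P.up[e.1]).1 :=
          hfix _ (List.mem_map.2 ⟨_, List.getElem_mem hel, rfl⟩)
        have hc : g * (oRep ⟨P.a, a_mem_centZero h⟩) ^ e.2 = (oRep ⟨P.a, a_mem_centZero h⟩) ^ e.2 * g :=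
          (Commute.pow_right (oRange_comm h hg) e.2)
        rw [← (oRep_aPow h hb e.2).1]
        simp only [act] at hf ⊢
        rw [← mul_app, ← Subgroup.coe_mul, hc, Subgroup.coe_mul, mul_app]
        exact congrArg _ hf
      have hdec : n.1 = (((List.range 8).filter fun j => n.1.testBit j).map (2 ^ ·)).foldr (· ^^^ ·) 0 := by
        rw [List.foldr_map]
        refine Nat.eq_of_testBit_eq fun k => ?_
        rw [testBit_foldr_pow (List.nodup_range.filter _) k]
        by_cases hk : k < 8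
        · simp [List.mem_filter, hk]
        · have hf : n.1.testBit k = false := Nat.testBit_lt_two_pow (n.2.trans_le (by
            calc 256 = 2 ^ 8 := by norm_num
              _ ≤ _ := Nat.pow_le_pow_right (by norm_num) (by omega)))
          simp [List.mem_filter, hk, hf]
      rw [hdec]
      refine hsum _ fun x hx => ?_
      obtain ⟨j, hj, rfl⟩ := List.mem_map.1 hx
      exact hunit ⟨j, List.mem_range.1 (List.mem_of_mem_filter hj)⟩
    | succ d ih =>
      intro k hk
      have hlt : k < P.up.length := by omega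
      obtain ⟨hb, hcnt⟩ := h.up.1 ⟨k, hlt⟩
      simp only [List.getD_eq_getElem _ _ hlt] at hb hcnt
      have hsplit : pts.take (k + 1) = pts.take k ++ [bitVec P.up[k].1] := by
        simp only [pts]
        rw [List.take_add_one, List.getElem?_eq_getElem (by simpa using hlt), List.getElem_map]
        rfl
      rw [List.drop_eq_getElem_cons hlt, List.map_cons, List.prod_cons]
      set C := (List.range 256).filter (P.cand ((P.up.take k).map Prod.fst) P.up[k].1) with hC
      have hs := ncard_step_le act (fun b => rfl) hmul P.oRange (pts.take k) (bitVec P.up[k].1)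
        (bitVec '' (C.toFinset : Set ℕ)) ((Finset.finite_toSet _).image _) (fun g hg => by
          obtain ⟨x, hx⟩ := bitVec_facts.1 (act g (bitVec P.up[k].1))
          refine ⟨x.1, ?_, hx⟩
          rw [Finset.mem_coe, List.mem_toFinset, hC, List.mem_filter]
          refine ⟨List.mem_range.2 x.2, cand_spec h hg.1 ?_ ?_ hb x.2 hx.symm⟩
          · intro u hu
            obtain ⟨e, he, rfl⟩ := List.mem_map.1 hu
            obtain ⟨l, hl, rfl⟩ := List.getElem_of_mem he
            simp only [List.length_take] at hl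
            have := (h.up.1 ⟨l, by omega⟩).1
            simpa only [List.getD_eq_getElem _ _ (show l < P.up.length by omega), List.getElem_take] using this
          · intro u hu
            obtain ⟨e, he, rfl⟩ := List.mem_map.1 hu
            refine hg.2 _ ?_
            simp only [pts, ← List.map_take]
            exact List.mem_map.2 ⟨e, he, rfl⟩)
      refine hs.trans (Nat.mul_le_mul ?_ (hsplit ▸ ih (k + 1) (by omega)))
      refine ((Set.ncard_image_le (Finset.finite_toSet _)).trans ?_).trans hcnt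
      rw [Set.ncard_coe_finset]
      exact List.toFinset_card_le _
  have h0 := key P.up.length 0 (zero_add _)
  rw [List.drop_zero, List.take_zero] at h0
  refine le_trans (le_of_eq ?_) h0
  rw [← Nat.card_coe_set_eq]
  refine Nat.card_congr (Equiv.subtypeEquivRight fun g => ?_)
  simp [fixing]

theorem card_pairC_le (h : P.Checked) : Nat.card P.pairC ≤ P.upCard * 2 ^ (P.dim + 2) := by
  classical
  haveI : Finite ↥Co0 := finite_co0
  set f := oRep.comp (Subgroup.inclusion (inf_le_left : P.pairC ≤ centZero))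
  rw [show Nat.card P.pairC = _ from Subgroup.card_eq_card_quotient_mul_card_subgroup f.ker,
    Nat.card_congr (QuotientGroup.quotientKerEquivRange f).toEquiv]
  refine Nat.mul_le_mul (oRange_le h) ?_
  have hsub : ((f.ker.map P.pairC.subtype : Subgroup Co0) : Set Co0) ⊆
      (P.fixQ : Set Co0) ∪ (negAll * ·) '' (P.fixQ : Set Co0) := by
    rintro _ ⟨x, hx, rfl⟩
    obtain ⟨hxz, hxa⟩ := mem_pairC.1 x.2
    rcases (H92.CoOneCent.oRep_eq_one_iff ⟨x.1, hxz⟩).1 (MonoidHom.mem_ker.1 hx) with e | e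
    · exact Or.inl (mem_fixQ.2 ⟨mem_kerSub.2 e, hxa⟩)
    · refine Or.inr ⟨negAll * x.1, mem_fixQ.2 ⟨mem_kerSub.2 e, ?_⟩, ?_⟩
      · rw [mul_assoc, hxa, ← mul_assoc, negAll_comm P.a, mul_assoc]
      · show negAll * (negAll * x.1) = x.1
        rw [← mul_assoc, negAll_sq, one_mul]
  have h1 := (Set.ncard_le_ncard hsub (Set.toFinite _)).trans (Set.ncard_union_le _ _)
  have h2 : ((negAll * ·) '' (P.fixQ : Set Co0)).ncard ≤ (P.fixQ : Set Co0).ncard :=
    Set.ncard_image_le (Set.toFinite _)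
  have e1 : ((f.ker.map P.pairC.subtype : Subgroup Co0) : Set Co0).ncard = Nat.card f.ker := by
    rw [← Nat.card_coe_set_eq]
    exact (Nat.card_congr (Subgroup.equivMapOfInjective _ _ P.pairC.subtype_injective).toEquiv).symm
  have e2 : (P.fixQ : Set Co0).ncard = Nat.card P.fixQ := (Nat.card_coe_set_eq _).symm
  have e3 : 2 ^ (P.dim + 2) = 2 ^ (P.dim + 1) + 2 ^ (P.dim + 1) := by ring
  have := (fixQ_facts h).1
  omega

/-! ### The kernel -/

theorem a_pow (h : P.Checked) : P.a ^ P.p = 1 := by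
  have e := eq_of_eqOK h.a.2.2.2.2.1
  have key : ∀ k : ℕ, wordEl ((List.replicate k P.aW).flatten) = P.a ^ k := by
    intro k
    induction k with
    | zero => rfl
    | succ k ih => rw [List.replicate_succ, List.flatten_cons, CoTwo.wordEl_append, ih, pow_succ]; rfl
  rw [key] at e
  exact e

theorem oRep_a_order (h : P.Checked) : orderOf (oRep ⟨P.a, a_mem_centZero h⟩) = P.p := by
  have : Fact P.p.Prime := ⟨h.a.1⟩
  refine orderOf_eq_prime ?_ ?_
  · rw [← map_pow, show (⟨P.a, a_mem_centZero h⟩ : centZero) ^ P.p = 1 from Subtype.ext (a_pow h),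
      map_one]
  · intro e
    obtain ⟨h1, h2⟩ := oRep_a h (show (1 : ℕ) < 256 by norm_num)
    rw [e] at h1
    exact h.a.2.2.2.2.2.2.2 (bitVec_inj h2 (by norm_num) h1.symm)

theorem a_order (h : P.Checked) : orderOf P.a = P.p := by
  have : Fact P.p.Prime := ⟨h.a.1⟩
  refine orderOf_eq_prime (a_pow h) fun e => ?_
  have := oRep_a_order h
  rw [show (⟨P.a, a_mem_centZero h⟩ : centZero) = 1 from Subtype.ext e, map_one, orderOf_one] at this
  exact h.a.1.one_lt.ne this

/-- The sign. -/
def sgn (b : Bool) : Co0 := bif b then negAll else 1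

theorem pow_sgn_mem_fixQ (h : P.Checked) {i : ℕ} {b : Bool} (hm : P.a ^ i * sgn b ∈ P.fixQ) :
    P.p ∣ i ∧ b = false := by
  have hz : P.a ^ i * sgn b ∈ centZero := mem_pairC.1 (fixQ_le hm) |>.1
  have hk := (H92.CoOneCent.oRep_eq_one_iff ⟨_, hz⟩).2 (Or.inl (mem_kerSub.1 (mem_fixQ.1 hm).1))
  have hn : negAll ∈ centZero := H92.CoOneCent.negAll_mem
  have hon : oRep ⟨negAll, hn⟩ = 1 := by
    rw [H92.CoOneCent.oRep_eq_one_iff]
    refine Or.inr ?_
    rw [negAll_sq]
    exact mem_kerSub.1 (one_mem _)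
  have hs : sgn b ∈ centZero := by cases b <;> simp [sgn, hn]
  have hos : oRep ⟨sgn b, hs⟩ = 1 := by
    cases b
    · exact map_one oRep
    · exact hon
  rw [show (⟨P.a ^ i * sgn b, hz⟩ : centZero) = ⟨P.a, a_mem_centZero h⟩ ^ i * ⟨sgn b, hs⟩ from
    Subtype.ext (by push_cast; rfl), map_mul, map_pow, hos, mul_one,
    ← orderOf_dvd_iff_pow_eq_one, oRep_a_order h] at hk
  refine ⟨hk, ?_⟩
  rw [show P.a ^ i = 1 from by rw [← orderOf_dvd_iff_pow_eq_one, a_order h]; exact hk, one_mul] at hm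
  cases b
  · rfl
  · exact absurd (mem_fixQ.1 hm).1 negAll_not_mem_kerSub

theorem sgn_comm (b : Bool) (g : Co0) : sgn b * g = g * sgn b := by
  cases b
  · simp [sgn]
  · exact negAll_comm g

theorem basic_mem (h : P.Checked) (i : ℕ) (b : Bool) {q : Co0} (hq : q ∈ P.fixQ) :
    ∃ hm : P.a ^ i * sgn b * q ∈ P.pairC, psi h ⟨_, hm⟩ = 1 := by
  have ha : P.a ∈ P.pairC := mem_pairC.2 ⟨a_mem_centZero h, rfl⟩
  have hs : sgn b ∈ P.pairC := by
    cases b
    · exact one_mem _
    · exact mem_pairC.2 ⟨H92.CoOneCent.negAll_mem, negAll_comm P.a⟩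
  refine ⟨mul_mem (mul_mem (pow_mem ha i) hs) (fixQ_le hq), (psi_eq_one_iff h _).2 fun r hr => ?_⟩
  have hc : Commute (P.a ^ i * sgn b) (q * r * q⁻¹) :=
    ((Commute.pow_left (mem_fixQ.1 (conj_fixQ (fixQ_le hq) hr)).2.symm i)).mul_left (sgn_comm b _)
  show P.pc (P.a ^ i * sgn b * q * r * (P.a ^ i * sgn b * q)⁻¹) = _
  rw [show P.a ^ i * sgn b * q * r * (P.a ^ i * sgn b * q)⁻¹
      = (P.a ^ i * sgn b) * (q * r * q⁻¹) * (P.a ^ i * sgn b)⁻¹ by group, hc.eq, mul_inv_cancel_right,
    pc_mul h (mul_mem hq hr) (inv_mem hq), pc_mul h hq hr]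
  have hinv : P.pc q + P.pc q⁻¹ = 0 := by
    rw [← pc_mul h hq (inv_mem hq), mul_inv_cancel, pc_one]
  rw [add_comm (P.pc q), add_assoc, hinv, add_zero]

theorem psi_facts (h : P.Checked) :
    Nat.card (psi h).range = P.lowCard ∧
      ∀ g : P.pairC, psi h g = 1 → ∃ (i : ℕ) (b : Bool), ∃ q ∈ P.fixQ, g.1 = P.a ^ i * sgn b * q := by
  haveI : Finite ↥Co0 := finite_co0
  let f : Fin P.p × Bool × P.fixQ → (psi h).ker := fun x =>
    ⟨⟨_, (basic_mem h x.1.1 x.2.1 x.2.2.2).1⟩,
      MonoidHom.mem_ker.2 (basic_mem h x.1.1 x.2.1 x.2.2.2).2⟩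
  have hf : Function.Injective f := by
    intro x y e
    have e' : P.a ^ x.1.1 * sgn x.2.1 * x.2.2.1 = P.a ^ y.1.1 * sgn y.2.1 * y.2.2.1 :=
      congrArg (fun z : (psi h).ker => z.1.1) e
    have hsq : ∀ b, sgn b * sgn b = 1 := fun b => by
      cases b
      · exact one_mul _
      · exact negAll_sq
    have hm : P.a ^ (x.1.1 + (P.p - y.1.1)) * sgn (x.2.1 ^^ y.2.1) ∈ P.fixQ := by
      have hb : sgn x.2.1 * sgn y.2.1 = sgn (x.2.1 ^^ y.2.1) := by
        cases x.2.1 <;> cases y.2.1 <;> simp [sgn, negAll_sq]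
      have hp : P.a ^ y.1.1 * P.a ^ (P.p - y.1.1) = 1 := by
        rw [← pow_add, Nat.add_sub_cancel' y.1.2.le, a_pow h]
      have : P.a ^ (x.1.1 + (P.p - y.1.1)) * sgn (x.2.1 ^^ y.2.1) = y.2.2.1 * x.2.2.1⁻¹ := by
        have hya : Commute y.2.2.1 P.a := (mem_fixQ.1 y.2.2.2).2
        calc P.a ^ (x.1.1 + (P.p - y.1.1)) * sgn (x.2.1 ^^ y.2.1)
            = P.a ^ (P.p - y.1.1) * (P.a ^ x.1.1 * sgn x.2.1 * x.2.2.1) * x.2.2.1⁻¹ * sgn y.2.1 := by
              rw [add_comm, pow_add, ← hb]; group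
          _ = (P.a ^ (P.p - y.1.1) * P.a ^ y.1.1) * sgn y.2.1 * (y.2.2.1 * x.2.2.1⁻¹) * sgn y.2.1 := by
              rw [e']; group
          _ = (sgn y.2.1 * sgn y.2.1) * (y.2.2.1 * x.2.2.1⁻¹) := by
              rw [← pow_add, Nat.sub_add_cancel y.1.2.le, a_pow h, one_mul, mul_assoc _ (y.2.2.1 * _),
                ← sgn_comm y.2.1 (y.2.2.1 * x.2.2.1⁻¹), ← mul_assoc]
          _ = _ := by rw [hsq, one_mul]
      rw [this]
      exact mul_mem y.2.2.2 (inv_mem x.2.2.2)
    obtain ⟨hd, hbf⟩ := pow_sgn_mem_fixQ h hm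
    have hx := x.1.2
    have hy := y.1.2
    have h1 : x.1.1 = y.1.1 := by
      obtain ⟨c, hc⟩ := hd
      rcases c with _ | _ | c
      · omega
      · omega
      · exfalso
        rw [show P.p * (c + 1 + 1) = P.p * c + 2 * P.p by ring] at hc
        omega
    have h2 : x.2.1 = y.2.1 := by
      cases hxb : x.2.1 <;> cases hyb : y.2.1 <;> simp [hxb, hyb] at hbf ⊢
    rw [h1, h2] at e'
    exact Prod.ext (Fin.ext h1) (Prod.ext h2 (Subtype.ext (mul_left_cancel e')))
  have hk : P.p * (2 * 2 ^ (P.dim + 1)) ≤ Nat.card (psi h).ker := by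
    have := Nat.card_le_card_of_injective f hf
    rwa [Nat.card_prod, Nat.card_prod, Nat.card_eq_fintype_card, Fintype.card_fin,
      Nat.card_eq_fintype_card, Fintype.card_bool, (fixQ_facts h).1] at this
  have htot : Nat.card (psi h).range * Nat.card (psi h).ker ≤ P.upCard * 2 ^ (P.dim + 2) := by
    rw [← Nat.card_congr (QuotientGroup.quotientKerEquivRange (psi h)).toEquiv,
      ← Subgroup.card_eq_card_quotient_mul_card_subgroup]
    exact card_pairC_le h
  rw [h.card, show P.dim + 2 = P.dim + 1 + 1 from rfl, pow_succ,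
    show P.p * P.lowCard * (2 ^ (P.dim + 1) * 2) = P.lowCard * (P.p * (2 * 2 ^ (P.dim + 1))) by ring]
    at htot
  have hr := lowCard_le h
  have hpos : 0 < P.p * (2 * 2 ^ (P.dim + 1)) := Nat.mul_pos h.a.1.pos (by positivity)
  have hrange : Nat.card (psi h).range = P.lowCard :=
    le_antisymm (Nat.le_of_mul_le_mul_right ((Nat.mul_le_mul_left _ hk).trans htot) hpos) hr
  refine ⟨hrange, ?_⟩
  have hlow : 0 < P.lowCard := hrange ▸ Nat.card_pos
  rw [hrange] at htot
  have hker : Nat.card (psi h).ker = P.p * (2 * 2 ^ (P.dim + 1)) :=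
    le_antisymm (Nat.le_of_mul_le_mul_left htot hlow) hk
  have hbij : Function.Bijective f := by
    refine hf.bijective_of_nat_card_le ?_
    rw [hker, Nat.card_prod, Nat.card_prod, Nat.card_eq_fintype_card, Fintype.card_fin,
      Nat.card_eq_fintype_card, Fintype.card_bool, (fixQ_facts h).1]
  intro g hg
  obtain ⟨x, hx⟩ := hbij.2 ⟨g, MonoidHom.mem_ker.2 hg⟩
  exact ⟨x.1.1, x.2.1, x.2.2.1, x.2.2.2,
    (congrArg (fun z : (psi h).ker => z.1.1) hx).symm⟩

end Params

end Cfsg.Agent.H41.CoSec
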