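import Cfsg.Agent.H41.CoSec.Params

/-!
The fixed extraspecial group of a certified element and the representation on it.
-/

set_option autoImplicit false

namespace Cfsg.Agent.H41.CoSec

open Cfsg Cfsg.Agent.Golay Cfsg.Agent.H92.LeechOrbit Cfsg.Agent.Orthogonal
open Cfsg.Agent.H92.CoTwoCent (octInv)
open Cfsg.Agent.H92.CoOneCent (centZero mem_centZero)
open scoped Matrix

lemma zmod_two_cases : ∀ c : ZMod 2, c = 0 ∨ c = 1 := by decide

lemma pos_lt {w : ℕ} (i : Ix w) : pos i < 2 * w + 2 := by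
  rcases i with (i | i) | j <;> simp only [pos, Sum.elim_inl, Sum.elim_inr] <;> omega

lemma pos_injective {w : ℕ} : Function.Injective (pos (w := w)) := by
  intro a b h
  rcases a with (a | a) | a <;> rcases b with (b | b) | b <;>
    simp only [pos, Sum.elim_inl, Sum.elim_inr] at h <;>
    first
      | omega
      | exact congrArg _ (congrArg _ (Fin.ext (by omega)))
      | exact congrArg _ (Fin.ext (by omega))

lemma exists_pos {w n : ℕ} (h : n < 2 * w + 2) : ∃ i : Ix w, pos i = n := by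
  by_cases h1 : n < w
  · exact ⟨.inl (.inl ⟨n, h1⟩), rfl⟩
  by_cases h2 : n < 2 * w
  · exact ⟨.inl (.inr ⟨n - w, by omega⟩), by simp [pos]; omega⟩
  exact ⟨.inr ⟨n - 2 * w, by omega⟩, by simp [pos]; omega⟩

lemma flip'_flip' {w : ℕ} (i : Ix w) : flip' (flip' i) = i := by
  rcases i with (i | i) | j
  · rfl
  · rfl
  · fin_cases j <;> rfl

lemma vecW_two_pow {w : ℕ} (i : Ix w) : vecW w (2 ^ pos i) = Pi.single i 1 := by
  funext k
  rw [vecW, Pi.single_apply, Nat.testBit_two_pow]
  by_cases h : k = i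
  · subst h; simp
  · rw [if_neg h, show decide (pos i = pos k) = false from
      decide_eq_false fun e => h (pos_injective e).symm]
    rfl

lemma vecW_xor (w a b : ℕ) : vecW w (a ^^^ b) = vecW w a + vecW w b := by
  funext k
  simp only [vecW, Pi.add_apply, Nat.testBit_xor]
  cases a.testBit (pos k) <;> cases b.testBit (pos k) <;> decide

lemma vecW_zero (w : ℕ) : vecW w 0 = 0 := by
  funext k
  simp [vecW]

lemma vecW_injective {w a b : ℕ} (ha : a < 2 ^ (2 * w + 2)) (hb : b < 2 ^ (2 * w + 2))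
    (h : vecW w a = vecW w b) : a = b := by
  refine Nat.eq_of_testBit_eq fun k => ?_
  by_cases hk : k < 2 * w + 2
  · obtain ⟨i, rfl⟩ := exists_pos hk
    have := congrFun h i
    simp only [vecW] at this
    cases h1 : a.testBit (pos i) <;> cases h2 : b.testBit (pos i) <;> simp [h1, h2] at this ⊢
  · have hle : 2 ^ (2 * w + 2) ≤ 2 ^ k := Nat.pow_le_pow_right (by norm_num) (by omega)
    rw [Nat.testBit_lt_two_pow (ha.trans_le hle), Nat.testBit_lt_two_pow (hb.trans_le hle)]

lemma formMinus_flip {w : ℕ} (u : Ix w → ZMod 2) (i : Ix w) :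
    formMinus (ZMod 2) w 1 1 (u + Pi.single i 1)
      = formMinus (ZMod 2) w 1 1 u + formMinus (ZMod 2) w 1 1 (Pi.single i 1) + u (flip' i) := by
  have h : ∀ x : ZMod 2, x + x = 0 := by decide
  have key := QuadraticMap.map_add (formMinus (ZMod 2) w 1 1) u (Pi.single i 1)
  rw [key, polar_formMinus]
  rcases i with (i | i) | j
  · simp [flip', Pi.single_apply, Finset.sum_ite_eq, mul_comm]
  · simp [flip', Pi.single_apply, Finset.sum_ite_eq, mul_comm]
  · fin_cases j <;> simp [flip', Pi.single_apply, h, mul_comm, two_mul]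

/-- A certified element. -/
noncomputable def Params.a (P : Params) : Co0 := wordEl P.aW

namespace Params

variable {P : Params}

/-- The fixed extraspecial group. -/
noncomputable def fixQ (P : Params) : Subgroup Co0 := kerSub ⊓ Subgroup.centralizer {P.a}

/-- The centraliser of the pair. -/
noncomputable def pairC (P : Params) : Subgroup Co0 := centZero ⊓ Subgroup.centralizer {P.a}

lemma mem_fixQ {g : Co0} : g ∈ P.fixQ ↔ g ∈ kerSub ∧ g * P.a = P.a * g := by
  rw [fixQ, Subgroup.mem_inf, Subgroup.mem_centralizer_singleton_iff]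

lemma mem_pairC {g : Co0} : g ∈ P.pairC ↔ g ∈ centZero ∧ g * P.a = P.a * g := by
  rw [pairC, Subgroup.mem_inf, Subgroup.mem_centralizer_singleton_iff]

lemma fixQ_le : P.fixQ ≤ P.pairC := fun _ h =>
  mem_pairC.2 ⟨kerSub_le (mem_fixQ.1 h).1, (mem_fixQ.1 h).2⟩

lemma conj_fixQ {g q : Co0} (hg : g ∈ P.pairC) (hq : q ∈ P.fixQ) : g * q * g⁻¹ ∈ P.fixQ := by
  refine mem_fixQ.2 ⟨kerSub_normal (mem_pairC.1 hg).1 (mem_fixQ.1 hq).1, ?_⟩
  have h2 := mem_pairC.1 (fixQ_le hq)
  exact Subgroup.mem_centralizer_singleton_iff.1 (mul_mem (mul_mem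
    (Subgroup.mem_centralizer_singleton_iff.2 (mem_pairC.1 hg).2)
    (Subgroup.mem_centralizer_singleton_iff.2 h2.2))
    (inv_mem (Subgroup.mem_centralizer_singleton_iff.2 (mem_pairC.1 hg).2)))

theorem a_comm_oct (h : P.Checked) : P.a * octInv = octInv * P.a := by
  have e := eq_of_eqOK h.a.2.2.2.1
  rw [wordEl_append_top, wordEl_append_top, wordEl_octWord] at e
  exact e
where wordEl_append_top {u v : List Atom} : wordEl (u ++ v) = wordEl v * wordEl u :=
  CoTwo.wordEl_append u v

theorem a_mem_centZero (h : P.Checked) : P.a ∈ centZero := mem_centZero.2 (a_comm_oct h)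

theorem oct_mem_fixQ (h : P.Checked) : octInv ∈ P.fixQ :=
  mem_fixQ.2 ⟨octInv_mem_kerSub, (a_comm_oct h).symm⟩

/-- The element of the dual basis. -/
noncomputable def y (P : Params) (i : Ix P.w) : Co0 := wordEl (P.yWord (pos i))

theorem y_mem (h : P.Checked) (i : Ix P.w) : P.y i ∈ P.fixQ := by
  obtain ⟨hk, hc, -⟩ := h.y i
  refine mem_fixQ.2 ⟨kAtom_mem hk (List.all_eq_true.1 kerList_ok _ hk), ?_⟩
  have e := eq_of_eqOK hc
  rw [CoTwo.wordEl_append, CoTwo.wordEl_append] at e
  exact e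

theorem y_sq (h : P.Checked) (i : Ix P.w) :
    (P.y i * P.y i = 1 ↔ formMinus (ZMod 2) P.w 1 1 (Pi.single i 1) = 0) := by
  obtain ⟨-, -, hs, -⟩ := h.y i
  have e := eq_of_eqOK hs
  rw [CoTwo.wordEl_append] at e
  change P.y i * P.y i = _ at e
  rw [vecW_two_pow] at e
  rw [e]
  by_cases hf : formMinus (ZMod 2) P.w 1 1 (Pi.single i 1) = 0
  · simp [hf, wordEl]
  · rw [decide_eq_false hf, cond_false, wordEl_octWord]
    simp [hf, H92.CoTwoCent.octInv_ne_one]

theorem y_comm (h : P.Checked) (i j : Ix P.w) :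
    P.y i * P.y j = P.y j * P.y i ↔ j ≠ flip' i := by
  obtain ⟨-, -, -, hr⟩ := h.y i
  have e := eq_of_eqOK (hr j)
  rw [CoTwo.wordEl_append] at e
  change P.y j * P.y i = _ at e
  by_cases hf : j = flip' i
  · rw [decide_eq_true hf, cond_true, CoTwo.wordEl_append, CoTwo.wordEl_append, wordEl_octWord] at e
    change P.y j * P.y i = octInv * (P.y i * P.y j) at e
    simp only [ne_eq, hf, not_true_eq_false, iff_false]
    intro hc
    rw [← hf] at hc
    rw [hc] at e
    exact H92.CoTwoCent.octInv_ne_one (mul_eq_right.1 e.symm)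
  · rw [decide_eq_false hf, cond_false, CoTwo.wordEl_append] at e
    exact ⟨fun _ => hf, fun _ => e.symm⟩

open Classical in
/-- The commutation vector with the flipped basis. -/
noncomputable def pc (P : Params) (q : Co0) : Ix P.w → ZMod 2 :=
  fun i => if q * P.y (flip' i) = P.y (flip' i) * q then 0 else 1

theorem pc_y (h : P.Checked) (i : Ix P.w) : P.pc (P.y i) = Pi.single i 1 := by
  funext j
  rw [pc, Pi.single_apply]
  by_cases hj : j = i
  · subst hj
    rw [if_pos rfl, if_neg fun e => (y_comm h j (flip' j)).1 e rfl]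
  · rw [if_neg hj, if_pos]
    refine (y_comm h i (flip' j)).2 fun e => hj ?_
    rw [← flip'_flip' j, e, flip'_flip']

theorem pc_mul (h : P.Checked) {q r : Co0} (hq : q ∈ P.fixQ) (hr : r ∈ P.fixQ) :
    P.pc (q * r) = P.pc q + P.pc r := by
  funext i
  set x := P.y (flip' i)
  have hx : x ∈ kerSub := (mem_fixQ.1 (y_mem h _)).1
  have hsw : ∀ {s : Co0}, s ∈ kerSub → ¬ s * x = x * s → s * x = octInv * (x * s) := by
    intro s hs hne
    rcases kerSub_comm hs hx with e | e
    · exact absurd (mul_inv_eq_iff_eq_mul.1 (mul_inv_eq_one.1 e)) hne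
    · rw [← mul_assoc, ← e]; group
  have hqk := (mem_fixQ.1 hq).1
  have hrk := (mem_fixQ.1 hr).1
  have hoq : q * octInv = octInv * q := oct_comm (kerSub_le hqk)
  simp only [Pi.add_apply, pc]
  by_cases h1 : q * x = x * q <;> by_cases h2 : r * x = x * r
  · rw [if_pos (by rw [mul_assoc, h2, ← mul_assoc, h1, mul_assoc]), if_pos h1, if_pos h2, add_zero]
  · rw [if_neg, if_pos h1, if_neg h2, zero_add]
    intro e
    apply h2
    rw [← mul_left_cancel_iff (a := q), ← mul_assoc, e, ← mul_assoc, ← h1, mul_assoc]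
  · rw [if_neg, if_neg h1, if_pos h2, add_zero]
    intro e
    apply h1
    rw [mul_assoc, h2, ← mul_assoc] at e
    rwa [← mul_right_cancel_iff (a := r), mul_assoc x q r]
  · rw [if_pos, if_neg h1, if_neg h2]
    · decide
    · calc q * r * x = q * (octInv * (x * r)) := by rw [mul_assoc, hsw hrk h2]
        _ = octInv * (q * x) * r := by rw [← mul_assoc, hoq]; group
        _ = octInv * octInv * (x * q) * r := by rw [hsw hqk h1]; group
        _ = _ := by rw [H92.CoTwoCent.octInv_sq, one_mul, mul_assoc]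

theorem pc_oct (h : P.Checked) : P.pc octInv = 0 := by
  funext i
  rw [pc, if_pos (oct_comm (kerSub_le (mem_fixQ.1 (y_mem h _)).1)).symm]
  rfl

theorem pc_one : P.pc 1 = 0 := by
  funext i
  rw [pc, if_pos (by rw [one_mul, mul_one])]
  rfl

/-- Products of basis elements. -/
def genQ (P : Params) : Subgroup Co0 :=
  Subgroup.closure (insert octInv (Set.range P.y))

theorem genQ_le (h : P.Checked) : P.genQ ≤ P.fixQ := by
  rw [genQ, Subgroup.closure_le]
  rintro x (rfl | ⟨i, rfl⟩)
  exacts [oct_mem_fixQ h, y_mem h i]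

theorem exists_pc (h : P.Checked) (v : Ix P.w → ZMod 2) : ∃ q ∈ P.genQ, P.pc q = v := by
  classical
  have key : ∀ s : Finset (Ix P.w), ∃ q ∈ P.genQ, P.pc q = ∑ i ∈ s, v i • Pi.single i 1 := by
    intro s
    induction s using Finset.induction_on with
    | empty => exact ⟨1, one_mem _, by rw [pc_one, Finset.sum_empty]⟩
    | insert i s hi ih =>
      obtain ⟨q, hq, hv⟩ := ih
      have hy : P.y i ∈ P.genQ := Subgroup.subset_closure (Or.inr ⟨i, rfl⟩)
      rw [Finset.sum_insert hi]
      rcases zmod_two_cases (v i) with e | e <;> rw [e]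
      · exact ⟨q, hq, by rw [zero_smul, zero_add, hv]⟩
      · exact ⟨P.y i * q, mul_mem hy hq,
          by rw [pc_mul h (genQ_le h hy) (genQ_le h hq), pc_y h, hv, one_smul]⟩
  obtain ⟨q, hq, hv⟩ := key Finset.univ
  refine ⟨q, hq, hv.trans (funext fun j => ?_)⟩
  simp [Finset.sum_apply, Pi.single_apply]

theorem card_fixQ_le (h : P.Checked) : Nat.card P.fixQ ≤ 2 ^ (P.dim + 1) := by
  classical
  obtain ⟨hlen, hleech, hall⟩ := h.cq
  have hsub : (P.fixQ : Set Co0) ⊆
      ((P.cqList.toFinset.image fun k => wordEl (kAtom k) : Finset Co0) : Set Co0) := by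
    intro g hg
    obtain ⟨hgk, hga⟩ := mem_fixQ.1 hg
    obtain ⟨k, hk, rfl⟩ := exists_kList hgk kerList_ok
    have hk' := List.all_eq_true.1 hall k hk
    rw [Bool.or_eq_true] at hk'
    rcases hk' with hc | hc
    · exact Finset.mem_coe.2 (Finset.mem_image.2
        ⟨k, List.mem_toFinset.2 (List.contains_iff_mem.1 hc), rfl⟩)
    · exfalso
      obtain ⟨n, hn, hne⟩ := List.any_eq_true.1 hc
      have hkok := List.all_eq_true.1 kerList_ok k hk
      refine ne_of_neOK ?_ ?_ (List.all_eq_true.1 hleech n hn) hne ?_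
      · rw [List.all_append, hkok, h.a.2.2.1]; rfl
      · rw [List.all_append, hkok, h.a.2.2.1]; rfl
      · rw [CoTwo.wordEl_append, CoTwo.wordEl_append]
        exact hga.symm
  have := Set.ncard_le_ncard hsub (Finset.finite_toSet _)
  rw [Set.ncard_coe_finset, ← Nat.card_coe_set_eq] at this
  exact this.trans ((Finset.card_image_le.trans (List.toFinset_card_le _)).trans hlen)

theorem card_Ix (w : ℕ) : Nat.card (Ix w → ZMod 2) = 2 ^ (2 * w + 2) := by
  rw [Nat.card_fun, Nat.card_zmod, Nat.card_eq_fintype_card]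
  congr 1
  simp only [Fintype.card_sum, Fintype.card_fin]
  omega

/-- Commutation as a homomorphism. -/
noncomputable def pcHom (h : P.Checked) : P.fixQ →* Multiplicative (Ix P.w → ZMod 2) where
  toFun q := Multiplicative.ofAdd (P.pc q.1)
  map_one' := congrArg Multiplicative.ofAdd pc_one
  map_mul' q r := by
    rw [Subgroup.coe_mul, pc_mul h q.2 r.2]
    rfl

theorem fixQ_facts (h : P.Checked) :
    Nat.card P.fixQ = 2 ^ (P.dim + 1) ∧
    (∀ q ∈ P.fixQ, P.pc q = 0 → q = 1 ∨ q = octInv) ∧ P.fixQ = P.genQ := by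
  have : Finite ↥Co0 := finite_co0
  have hsurj : Function.Surjective (pcHom h) := fun v => by
    obtain ⟨q, hq, hv⟩ := exists_pc h (Multiplicative.toAdd v)
    exact ⟨⟨q, genQ_le h hq⟩, congrArg Multiplicative.ofAdd hv⟩
  have hprod : Nat.card P.fixQ = Nat.card (pcHom h).ker * 2 ^ (2 * P.w + 2) := by
    rw [Subgroup.card_eq_card_quotient_mul_card_subgroup (pcHom h).ker, mul_comm,
      Nat.card_congr (QuotientGroup.quotientKerEquivOfSurjective _ hsurj).toEquiv,
      ← card_Ix, Nat.card_congr Multiplicative.ofAdd.symm]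
  have hmem : ∀ q : P.fixQ, q ∈ (pcHom h).ker ↔ P.pc q.1 = 0 := fun q => by
    rw [MonoidHom.mem_ker]
    exact ⟨fun e => congrArg Multiplicative.toAdd e, fun e => congrArg Multiplicative.ofAdd e⟩
  let o : (pcHom h).ker := ⟨⟨octInv, oct_mem_fixQ h⟩, (hmem _).2 (pc_oct h)⟩
  have hle2 : Nat.card (pcHom h).ker ≤ 2 := by
    have := card_fixQ_le h
    rw [hprod, show P.dim + 1 = 2 * P.w + 2 + 1 from rfl,
      pow_succ 2 (2 * P.w + 2), mul_comm (2 ^ (2 * P.w + 2)) 2] at this
    exact Nat.le_of_mul_le_mul_right this (pow_pos (by norm_num) _)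
  have ho : o ≠ 1 := fun e => H92.CoTwoCent.octInv_ne_one (congrArg (fun x => x.1.1) e)
  have hk2 : Nat.card (pcHom h).ker = 2 := by
    have : Nontrivial (pcHom h).ker := ⟨⟨o, 1, ho⟩⟩
    have := Finite.one_lt_card (α := (pcHom h).ker)
    omega
  have hker : ∀ q ∈ P.fixQ, P.pc q = 0 → q = 1 ∨ q = octInv := by
    intro q hq h0
    by_contra hne
    push Not at hne
    obtain ⟨u, -, huniq⟩ := (Nat.card_eq_two_iff' (1 : (pcHom h).ker)).1 hk2
    have e1 := huniq ⟨⟨q, hq⟩, (hmem _).2 h0⟩ fun e => hne.1 (congrArg (fun x => x.1.1) e)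
    have e2 := huniq o ho
    exact hne.2 (congrArg (fun x => x.1.1) (e1.trans e2.symm))
  refine ⟨?_, hker, le_antisymm (fun q hq => ?_) (genQ_le h)⟩
  · rw [hprod, hk2, show P.dim + 1 = 2 * P.w + 2 + 1 from rfl,
      pow_succ 2 (2 * P.w + 2), mul_comm]
  · obtain ⟨r, hr, hv⟩ := exists_pc h (P.pc q)
    have hrf := genQ_le h hr
    have h0 : P.pc (r⁻¹ * q) = 0 := by
      have := pc_mul h hrf (mul_mem (inv_mem hrf) hq)
      rw [mul_inv_cancel_left, hv] at this
      exact left_eq_add.1 this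
    rcases hker _ (mul_mem (inv_mem hrf) hq) h0 with e | e
    · rw [inv_mul_eq_one.1 e] at hr; exact hr
    · rw [inv_mul_eq_iff_eq_mul.1 e]
      exact mul_mem hr (Subgroup.subset_closure (Or.inl rfl))

theorem fixQ_induction (h : P.Checked) {motive : Co0 → Prop} (h1 : motive 1) (ho : motive octInv)
    (hy : ∀ i, motive (P.y i))
    (hmul : ∀ q r, q ∈ P.fixQ → r ∈ P.fixQ → motive q → motive r → motive (q * r))
    {q : Co0} (hq : q ∈ P.fixQ) : motive q := by
  have : Finite ↥Co0 := finite_co0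
  rw [(fixQ_facts h).2.2] at hq
  have hq' : q ∈ Submonoid.closure (insert octInv (Set.range P.y)) := by
    rw [← Subgroup.closure_toSubmonoid_of_finite]
    exact hq
  suffices q ∈ P.fixQ ∧ motive q from this.2
  clear hq
  induction hq' using Submonoid.closure_induction with
  | one => exact ⟨one_mem _, h1⟩
  | mem x hx =>
    rcases hx with rfl | ⟨i, rfl⟩
    exacts [⟨oct_mem_fixQ h, ho⟩, ⟨y_mem h i, hy i⟩]
  | mul x z _ _ hx hz => exact ⟨mul_mem hx.1 hz.1, hmul x z hx.1 hz.1 hx.2 hz.2⟩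

theorem sq_iff (h : P.Checked) {q : Co0} (hq : q ∈ P.fixQ) :
    q * q = 1 ↔ formMinus (ZMod 2) P.w 1 1 (P.pc q) = 0 := by
  classical
  rw [(fixQ_facts h).2.2] at hq
  have hone : octInv * octInv = 1 := H92.CoTwoCent.octInv_sq
  suffices q ∈ P.fixQ ∧ (q * q = 1 ↔ formMinus (ZMod 2) P.w 1 1 (P.pc q) = 0) from this.2
  have : Finite ↥Co0 := finite_co0
  have hq' : q ∈ Submonoid.closure (insert octInv (Set.range P.y)) := by
    rw [← Subgroup.closure_toSubmonoid_of_finite]
    exact hq
  clear hq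
  induction hq' using Submonoid.closure_induction_right with
  | one => exact ⟨one_mem _, by rw [pc_one, map_zero]; simp⟩
  | mul_right x _ z hz ih =>
    obtain ⟨hx, ih⟩ := ih
    have hxk := (mem_fixQ.1 hx).1
    have hox : octInv * x = x * octInv := (oct_comm (kerSub_le hxk)).symm
    rcases hz with rfl | ⟨i, rfl⟩
    · refine ⟨mul_mem hx (oct_mem_fixQ h), ?_⟩
      rw [pc_mul h hx (oct_mem_fixQ h), pc_oct h, add_zero, ← ih,
        show x * octInv * (x * octInv) = x * x by
          rw [mul_assoc, ← mul_assoc octInv, hox, mul_assoc x octInv, hone, mul_one]]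
    · have hy := y_mem h i
      have hyk := (mem_fixQ.1 hy).1
      refine ⟨mul_mem hx hy, ?_⟩
      rw [pc_mul h hx hy, pc_y h, formMinus_flip]
      have h3 := y_sq h i
      have hcase : ∀ {s : Co0}, s ∈ kerSub → s * s = 1 ∨ s * s = octInv := kerSub_sq
      have hpc : P.pc x (flip' i) = if x * P.y i = P.y i * x then 0 else 1 := by
        rw [pc, flip'_flip']
      have hsw : ¬ x * P.y i = P.y i * x → P.y i * x = octInv * (x * P.y i) := by
        intro hne
        rcases kerSub_comm hyk hxk with e | e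
        · exact absurd (mul_inv_eq_iff_eq_mul.1 (mul_inv_eq_one.1 e)).symm hne
        · rw [← mul_assoc, ← e]; group
      have hexp : x * P.y i * (x * P.y i) = x * (P.y i * x) * P.y i := by group
      have ho1 : octInv ≠ 1 := H92.CoTwoCent.octInv_ne_one
      have hop : (1 : ZMod 2) + 1 = 0 := by decide
      by_cases hc : x * P.y i = P.y i * x
      · rw [hpc, if_pos hc, add_zero, hexp, ← hc,
          show x * (x * P.y i) * P.y i = (x * x) * (P.y i * P.y i) by group]
        rcases hcase hxk with e | e <;> rcases hcase hyk with e' | e'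
        · simp [e, e', ih.1 e, h3.1 e']
        · have a1 : formMinus (ZMod 2) P.w 1 1 (Pi.single i 1) = 1 :=
            (zmod_two_cases _).resolve_left fun f => ho1 (e'.symm.trans (h3.2 f))
          simp [e, e', ih.1 e, a1, ho1]
        · have a1 : formMinus (ZMod 2) P.w 1 1 (P.pc x) = 1 :=
            (zmod_two_cases _).resolve_left fun f => ho1 (e.symm.trans (ih.2 f))
          simp [e, e', h3.1 e', a1, ho1]
        · have a0 : formMinus (ZMod 2) P.w 1 1 (P.pc x) = 1 :=
            (zmod_two_cases _).resolve_left fun f => ho1 (e.symm.trans (ih.2 f))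
          have a1 : formMinus (ZMod 2) P.w 1 1 (Pi.single i 1) = 1 :=
            (zmod_two_cases _).resolve_left fun f => ho1 (e'.symm.trans (h3.2 f))
          simp [e, e', a0, a1, hone, hop]
      · rw [hpc, if_neg hc, hexp, hsw hc,
          show x * (octInv * (x * P.y i)) * P.y i = (x * octInv) * x * (P.y i * P.y i) by group,
          ← hox, mul_assoc octInv x x]
        rcases hcase hxk with e | e <;> rcases hcase hyk with e' | e'
        · simp [e, e', ih.1 e, h3.1 e', ho1]
        · have a1 : formMinus (ZMod 2) P.w 1 1 (Pi.single i 1) = 1 :=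
            (zmod_two_cases _).resolve_left fun f => ho1 (e'.symm.trans (h3.2 f))
          simp [e, e', ih.1 e, a1, hone, hop]
        · have a1 : formMinus (ZMod 2) P.w 1 1 (P.pc x) = 1 :=
            (zmod_two_cases _).resolve_left fun f => ho1 (e.symm.trans (ih.2 f))
          simp [e, e', h3.1 e', a1, hone, hop]
        · have a0 : formMinus (ZMod 2) P.w 1 1 (P.pc x) = 1 :=
            (zmod_two_cases _).resolve_left fun f => ho1 (e.symm.trans (ih.2 f))
          have a1 : formMinus (ZMod 2) P.w 1 1 (Pi.single i 1) = 1 :=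
            (zmod_two_cases _).resolve_left fun f => ho1 (e'.symm.trans (h3.2 f))
          simp [e, e', a0, a1, hone, hop, ho1]

/-! ### The representation -/

/-- The matrix of conjugation. -/
noncomputable def cMat (P : Params) (g : Co0) : Matrix (Ix P.w) (Ix P.w) (ZMod 2) :=
  Matrix.of fun i j => P.pc (g * P.y j * g⁻¹) i

theorem pc_conj (h : P.Checked) {g q : Co0} (hg : g ∈ P.pairC) (hq : q ∈ P.fixQ) :
    P.pc (g * q * g⁻¹) = P.cMat g *ᵥ P.pc q := by
  refine fixQ_induction h (motive := fun q => P.pc (g * q * g⁻¹) = P.cMat g *ᵥ P.pc q) ?_ ?_ ?_ ?_ hq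
  · rw [mul_one, mul_inv_cancel, pc_one, Matrix.mulVec_zero]
  · rw [oct_comm (mem_pairC.1 hg).1, mul_inv_cancel_right, pc_oct h, Matrix.mulVec_zero]
  · intro i
    rw [pc_y h, Matrix.mulVec_single_one]
    rfl
  · intro x z hx hz ihx ihz
    rw [show g * (x * z) * g⁻¹ = (g * x * g⁻¹) * (g * z * g⁻¹) by group,
      pc_mul h (conj_fixQ hg hx) (conj_fixQ hg hz), ihx, ihz, pc_mul h hx hz, Matrix.mulVec_add]

/-- The representation by matrices. -/
noncomputable def cHom (h : P.Checked) : P.pairC →* Matrix (Ix P.w) (Ix P.w) (ZMod 2) where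
  toFun g := P.cMat g.1
  map_one' := by
    refine Matrix.ext fun i j => ?_
    show P.pc ((1 : Co0) * P.y j * (1 : Co0)⁻¹) i = _
    rw [one_mul, inv_one, mul_one, pc_y h, Pi.single_apply, Matrix.one_apply]
  map_mul' g g' := by
    refine Matrix.ext fun i j => ?_
    show P.pc ((g.1 * g'.1) * P.y j * (g.1 * g'.1)⁻¹) i = _
    rw [show (g.1 * g'.1) * P.y j * (g.1 * g'.1)⁻¹ = g.1 * (g'.1 * P.y j * g'.1⁻¹) * g.1⁻¹ by group,
      pc_conj h g.2 (conj_fixQ g'.2 (y_mem h j))]
    rfl

theorem cHom_isometry (h : P.Checked) (g : P.pairC) :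
    (cHom h).toHomUnits g ∈ Cfsg.isometryGroup (ZMod 2) (Cfsg.quadFormMinus P.w (ZMod 2) 1 1) := by
  rw [mem_isometryGroup_iff]
  intro v
  obtain ⟨q, hq, rfl⟩ := exists_pc h v
  have hq' := genQ_le h hq
  show formMinus (ZMod 2) P.w 1 1 (P.cMat g.1 *ᵥ P.pc q) = formMinus (ZMod 2) P.w 1 1 (P.pc q)
  rw [← pc_conj h g.2 hq']
  have e1 := sq_iff h hq'
  have e2 := sq_iff h (conj_fixQ g.2 hq')
  have e3 : g.1 * q * g.1⁻¹ * (g.1 * q * g.1⁻¹) = 1 ↔ q * q = 1 := by
    rw [show g.1 * q * g.1⁻¹ * (g.1 * q * g.1⁻¹) = g.1 * (q * q) * g.1⁻¹ by group, conj_eq_one_iff]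
  rcases zmod_two_cases (formMinus (ZMod 2) P.w 1 1 (P.pc q)) with a | a <;>
    rcases zmod_two_cases (formMinus (ZMod 2) P.w 1 1 (P.pc (g.1 * q * g.1⁻¹))) with b | b <;>
    rw [a, b]
  · rw [e3.2 (e1.2 a) |> e2.1] at b; exact absurd b (by decide)
  · rw [e3.1 (e2.2 b) |> e1.1] at a; exact absurd a (by decide)

/-- The representation on the fixed space. -/
noncomputable def psi (h : P.Checked) :
    P.pairC →* Cfsg.isometryGroup (ZMod 2) (Cfsg.quadFormMinus P.w (ZMod 2) 1 1) :=
  (cHom h).toHomUnits.codRestrict _ (cHom_isometry h)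

theorem psi_val (h : P.Checked) (g : P.pairC) :
    ((psi h g : Matrix.GeneralLinearGroup (Ix P.w) (ZMod 2)) : Matrix (Ix P.w) (Ix P.w) (ZMod 2))
      = P.cMat g.1 := rfl

theorem psi_eq_one_iff (h : P.Checked) (g : P.pairC) :
    psi h g = 1 ↔ ∀ q ∈ P.fixQ, P.pc (g.1 * q * g.1⁻¹) = P.pc q := by
  constructor
  · intro e q hq
    have e' : P.cMat g.1 = 1 := by rw [← psi_val h g, e]; rfl
    rw [pc_conj h g.2 hq, e', Matrix.one_mulVec]
  · intro e
    refine Subtype.ext (Units.ext (Matrix.ext fun i j => ?_))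
    show P.pc (g.1 * P.y j * g.1⁻¹) i = _
    rw [e _ (y_mem h j), pc_y h, Pi.single_apply]
    exact Matrix.one_apply.symm

end Params

end Cfsg.Agent.H41.CoSec
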