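import Cfsg.Agent.H43.JTwo.OmegaFour
import Cfsg.Agent.Orthogonal.Index2Iso
import Cfsg.Agent.Orthogonal.Order
import Cfsg.Agent.Orthogonal.POmega
import Cfsg.Agent.Orthogonal.StdForms

/-!
The small orthogonal groups of minus type over two elements: orders and simplicity.
-/

set_option autoImplicit false
set_option synthInstance.maxHeartbeats 400000
set_option synthInstance.maxSize 4000
set_option maxRecDepth 20000

namespace Cfsg.Agent.H41.CoSec

open Cfsg.Agent.Orthogonal Module

theorem aniso_one :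
    ∀ z₁ z₂ : ZMod 2, z₁ ^ 2 + 1 * z₁ * z₂ + 1 * z₂ ^ 2 = 0 → z₁ = 0 ∧ z₂ = 0 := by
  decide

theorem card_isometry_minus (m : ℕ) :
    Nat.card ↥(Cfsg.isometryGroup (ZMod 2) (Cfsg.quadFormMinus m (ZMod 2) 1 1))
      = 2 * 2 ^ ((m + 1) * m) * (2 ^ (m + 1) + 1) * oprod 2 m := by
  rw [← formMinus_coe, card_isometryGroup,
    card_O_minus m _ (formMinus_nondeg (F := ZMod 2) (m := m) aniso_one) (formMinus_frame (F := ZMod 2) (m := m) 1 1)
      (formMinus_aniso (F := ZMod 2) (m := m) aniso_one) (finrank_formMinus (F := ZMod 2) (m := m)), Nat.card_zmod]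

theorem card_isometry_four :
    Nat.card ↥(Cfsg.isometryGroup (ZMod 2) (Cfsg.quadFormMinus 1 (ZMod 2) 1 1)) = 120 := by
  rw [card_isometry_minus]
  decide

theorem card_isometry_six :
    Nat.card ↥(Cfsg.isometryGroup (ZMod 2) (Cfsg.quadFormMinus 2 (ZMod 2) 1 1)) = 51840 := by
  rw [card_isometry_minus]
  decide

theorem card_omega_six :
    Nat.card ↥(Cfsg.Omega (ZMod 2) (Cfsg.quadFormMinus 2 (ZMod 2) 1 1)) = 25920 := by
  have hQ := formMinus_nondeg (F := ZMod 2) (m := 2) aniso_one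
  have hidx : (Cfsg.Omega (ZMod 2) (Cfsg.quadFormMinus 2 (ZMod 2) 1 1)).index = 2 := by
    rw [← formMinus_coe, omega_index]
    exact index_commutator_eq_two hQ
      (reflGroup_eq_top hQ (Or.inr (by rw [finrank_formMinus]; norm_num))) (by decide)
      (by rw [finrank_formMinus]; norm_num)
  have := Subgroup.card_mul_index (Cfsg.Omega (ZMod 2) (Cfsg.quadFormMinus 2 (ZMod 2) 1 1))
  rw [hidx, card_isometry_six] at this
  omega

theorem center_omega_six :
    Subgroup.center ↥(Cfsg.Omega (ZMod 2) (Cfsg.quadFormMinus 2 (ZMod 2) 1 1)) = ⊥ := by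
  rw [← formMinus_coe, eq_bot_iff]
  intro g hg
  rw [Subgroup.mem_bot]
  refine Subtype.ext (Subtype.ext (Units.ext ?_))
  rcases center_omega_cases (formMinus_nondeg (F := ZMod 2) (m := 2) aniso_one)
    (by rw [finrank_formMinus]; norm_num) hg with e | e
  · exact e
  · refine e.trans ?_
    ext i j
    rw [Matrix.neg_apply, ZMod.neg_eq_self_mod_two]
    rfl

theorem simple_omega_six :
    IsSimpleGroup ↥(Cfsg.Omega (ZMod 2) (Cfsg.quadFormMinus 2 (ZMod 2) 1 1)) := by
  rw [← formMinus_coe]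
  have : IsSimpleGroup (Cfsg.POmega (ZMod 2) (⇑(formMinus (ZMod 2) 2 1 1))) :=
    isSimpleGroup_POmega (formMinus_nondeg (F := ZMod 2) (m := 2) aniso_one)
      (by rw [finrank_formMinus]; norm_num)
  have hbot : Subgroup.center ↥(Cfsg.Omega (ZMod 2) (⇑(formMinus (ZMod 2) 2 1 1))) = ⊥ := by
    rw [formMinus_coe]; exact center_omega_six
  exact MulEquiv.isSimpleGroup
    ((QuotientGroup.quotientBot).symm.trans (QuotientGroup.quotientMulEquivOfEq hbot.symm))

open Cfsg.Agent.H92.OrthH1Four Cfsg.Agent.H43.JTwo in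
theorem simple_omega_four :
    IsSimpleGroup ↥(Cfsg.Omega (ZMod 2) (Cfsg.quadFormMinus 1 (ZMod 2) 1 1)) ∧
      Subgroup.center ↥(Cfsg.Omega (ZMod 2) (Cfsg.quadFormMinus 1 (ZMod 2) 1 1)) = ⊥ := by
  classical
  let f : commutator (O q) →* alternatingGroup SP :=
    (spPerm.comp (commutator (O q)).subtype).codRestrict _ fun g => spPerm_even g.2
  have hf : Function.Injective f := fun a b e =>
    Subtype.ext (spPerm_injective (congrArg Subtype.val e))
  have : Nontrivial SP := Fintype.one_lt_card_iff_nontrivial.mp (by rw [card_sp]; norm_num)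
  have hA : Nat.card ↥(alternatingGroup SP) = 60 := by
    have := two_mul_card_alternatingGroup (α := SP)
    rw [Fintype.card_perm, card_sp] at this
    rw [Nat.card_eq_fintype_card]
    simp only [Nat.factorial] at this
    omega
  have hbij : Function.Bijective f :=
    hf.bijective_of_nat_card_le (by rw [hA, card_commutator_four])
  have : IsSimpleGroup (alternatingGroup SP) :=
    alternatingGroup.isSimpleGroup (by rw [Nat.card_eq_fintype_card, card_sp])
  have hs : IsSimpleGroup ↥(Cfsg.Omega (ZMod 2) (Cfsg.quadFormMinus 1 (ZMod 2) 1 1)) := by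
    rw [← formMinus_coe]
    exact MulEquiv.isSimpleGroup ((omegaEquiv q).trans (MulEquiv.ofBijective f hbij))
  refine ⟨hs, ?_⟩
  rcases Subgroup.Normal.eq_bot_or_eq_top (Subgroup.instNormalCenter
    (G := ↥(Cfsg.Omega (ZMod 2) (Cfsg.quadFormMinus 1 (ZMod 2) 1 1)))) with e | e
  · exact e
  exfalso
  have hp : (Nat.card ↥(Cfsg.Omega (ZMod 2) (Cfsg.quadFormMinus 1 (ZMod 2) 1 1))).Prime := by
    have : IsMulCommutative ↥(Cfsg.Omega (ZMod 2) (Cfsg.quadFormMinus 1 (ZMod 2) 1 1)) :=
      ⟨⟨fun a b => (Subgroup.mem_center_iff.1 (e ▸ Subgroup.mem_top b) a)⟩⟩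
    letI : CommGroup ↥(Cfsg.Omega (ZMod 2) (Cfsg.quadFormMinus 1 (ZMod 2) 1 1)) :=
      { (inferInstance : Group _) with mul_comm := this.1.1 }
    exact IsSimpleGroup.prime_card
  rw [card_omega_four_minus] at hp
  norm_num at hp

end Cfsg.Agent.H41.CoSec
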