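import Cfsg.Agent.H41.CoSec.Basic

/-!
Certificates for the centraliser of an odd element inside the centraliser of the octad involution.
-/

set_option autoImplicit false

namespace Cfsg.Agent.H41.CoSec

open Cfsg Cfsg.Agent.Golay Cfsg.Agent.H92.LeechOrbit Cfsg.Agent.Orthogonal
open Cfsg.Agent.H92.CoOneCent (bitVec matOf aCode centZero)
open scoped Matrix

/-- The index type of the fixed space. -/
abbrev Ix (w : ℕ) : Type := (Fin w ⊕ Fin w) ⊕ Fin 2

/-- Position of an index. -/
def pos {w : ℕ} : Ix w → ℕ :=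
  Sum.elim (Sum.elim (fun i => i.1) (fun i => w + i.1)) (fun j => 2 * w + j.1)

/-- The partner index. -/
def flip' {w : ℕ} : Ix w → Ix w :=
  Sum.elim (Sum.elim (fun i => .inl (.inr i)) (fun i => .inl (.inl i)))
    (fun j => .inr (bif j.1 == 0 then 1 else 0))

/-- The vector of a code. -/
def vecW (w n : ℕ) : Ix w → ZMod 2 := fun k => bif n.testBit (pos k) then 1 else 0

/-- Apply a column list to a code. -/
def mvC : List ℕ → ℕ → ℕ
  | [], _ => 0
  | c :: r, v => (bif v.testBit 0 then c else 0) ^^^ mvC r (v >>> 1)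

/-- The quadratic form on codes. -/
def qC (v : ℕ) : Bool :=
  (v.testBit 0 && v.testBit 4) ^^ (v.testBit 1 && v.testBit 5) ^^
    ((v.testBit 2 && v.testBit 6) ^^ (v.testBit 3 && v.testBit 7))

/-- The polar form on codes. -/
def bC (u v : ℕ) : Bool := qC (u ^^^ v) ^^ (qC u ^^ qC v)

/-- The parameters. -/
structure Params where
  w : ℕ
  p : ℕ
  aW : List Atom
  aImg : List ℕ
  aCols : List ℕ
  yKey : List (ℕ × ℕ)
  cqList : List (ℕ × ℕ)
  gens : List (List Atom × List (ℕ × Bool))
  low : List (ℕ × List (List ℕ))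
  up : List (ℕ × ℕ)
  upSpan : List (List (ℕ × ℕ))
  conjW : List Atom
  conjV : ℕ × Bool × Bool
  irrSpan : List (List (List ℕ))

namespace Params

variable (P : Params)

/-- The dimension. -/
def dim : ℕ := 2 * P.w + 2

/-- The word of a kernel element of the dual basis. -/
def yWord (j : ℕ) : List Atom := kAtom (P.yKey.getD j (0, 0))

/-- The word of an exponent vector with a central bit. -/
def prodWord (v : ℕ) (e : Bool) : List Atom :=
  (bif e then octWord else []) ++
    ((List.range P.dim).reverse.filter fun j => v.testBit j).flatMap P.yWord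

/-- The word of a generator. -/
def gWord (i : ℕ) : List Atom := (P.gens.getD i ([], [])).1

/-- The columns of a generator. -/
def gCols (i : ℕ) : List ℕ := ((P.gens.getD i ([], [])).2).map Prod.fst

/-- Apply a product of generators to a code. -/
def actW (l : List ℕ) (v : ℕ) : ℕ := l.foldr (fun i x => mvC (P.gCols i) x) v

/-- Powers of the element on codes. -/
def aPow (i v : ℕ) : ℕ := (mvC P.aCols)^[i] v

/-- A candidate image of a base point. -/
def cand (pre : List ℕ) (b x : ℕ) : Bool :=
  (qC x == qC b) && (List.range P.p).all fun i =>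
    (bC x (P.aPow i x) == bC b (P.aPow i b)) &&
      pre.all fun u => bC x (P.aPow i u) == bC b (P.aPow i u)

/-- The element commutes with the octad involution and has the exponent. -/
def aOK : Prop :=
  P.p.Prime ∧ P.p % 2 = 1 ∧
  (P.aW.all atomOK = true) ∧
  eqOK (octWord ++ P.aW) (P.aW ++ octWord) = true ∧
  eqOK ((List.replicate P.p P.aW).flatten) [] = true ∧
  (∀ j : Fin 8, chk P.aW (aCode j) (P.aImg.getD j.1 0) = true) ∧
  (∀ v : Fin 256, matOf (fun j => P.aImg.getD j.1 0) *ᵥ bitVec v.1 = bitVec (mvC P.aCols v.1)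
    ∧ mvC P.aCols v.1 < 256) ∧
  mvC P.aCols 1 ≠ 1

/-- The dual basis of the fixed extraspecial group. -/
def yOK : Prop :=
  ∀ i : Ix P.w,
    P.yKey.getD (pos i) (0, 0) ∈ kerList ∧
    eqOK (P.aW ++ P.yWord (pos i)) (P.yWord (pos i) ++ P.aW) = true ∧
    eqOK (P.yWord (pos i) ++ P.yWord (pos i))
      (bif decide (formMinus (ZMod 2) P.w 1 1 (vecW P.w (2 ^ pos i)) = 0) then [] else octWord)
      = true ∧
    ∀ j : Ix P.w,
      eqOK (P.yWord (pos i) ++ P.yWord (pos j))
        (bif decide (j = flip' i) then P.yWord (pos j) ++ P.yWord (pos i) ++ octWord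
          else P.yWord (pos j) ++ P.yWord (pos i)) = true

/-- Every other kernel element moves some generator differently. -/
def cqOK : Prop :=
  P.cqList.length ≤ 2 ^ (P.dim + 1) ∧
  (CoTwo.genCodes.all fun n => inLeech (dec n)) = true ∧
  (kerList.all fun k => P.cqList.contains k ||
    CoTwo.genCodes.any fun n => neOK (kAtom k ++ P.aW) (P.aW ++ kAtom k) n) = true

/-- The generators. -/
def gensOK : Prop :=
  ∀ i : Fin P.gens.length,
    eqOK (P.aW ++ P.gWord i.1) (P.gWord i.1 ++ P.aW) = true ∧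
    eqOK (octWord ++ P.gWord i.1) (P.gWord i.1 ++ octWord) = true ∧
    (∀ j : Ix P.w,
      eqOK (P.yWord (pos j) ++ P.gWord i.1)
        (P.gWord i.1 ++ P.prodWord ((P.gens.getD i.1 ([], [])).2.getD (pos j) (0, false)).1
          ((P.gens.getD i.1 ([], [])).2.getD (pos j) (0, false)).2) = true) ∧
    ∀ v : Fin (2 ^ P.dim),
      mvC (P.gCols i.1) v.1 < 2 ^ P.dim ∧
      (Matrix.of fun (r c : Ix P.w) =>
          vecW P.w ((P.gens.getD i.1 ([], [])).2.getD (pos c) (0, false)).1 r) *ᵥ vecW P.w v.1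
        = vecW P.w (mvC (P.gCols i.1) v.1)

/-- The lower chain. -/
def lowOK : Prop :=
  ∀ k : Fin P.low.length,
    (P.low.getD k.1 (0, [])).1 < 2 ^ P.dim ∧
    ((P.low.getD k.1 (0, [])).2.map fun t => P.actW t (P.low.getD k.1 (0, [])).1).Nodup ∧
    ((P.low.getD k.1 (0, [])).2.all fun t => t.all (fun i => decide (i < P.gens.length)) &&
      (List.range k.1).all fun l =>
        P.actW t (P.low.getD l (0, [])).1 == (P.low.getD l (0, [])).1) = true

/-- The upper chain. -/
def upOK : Prop :=
  (∀ k : Fin P.up.length,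
    (P.up.getD k.1 (0, 0)).1 < 256 ∧
    ((List.range 256).filter
      (P.cand ((P.up.take k.1).map Prod.fst) (P.up.getD k.1 (0, 0)).1)).length
      ≤ (P.up.getD k.1 (0, 0)).2) ∧
  ∀ l : Fin 8,
    ((P.upSpan.getD l.1 []).all fun e => decide (e.1 < P.up.length)) = true ∧
    ((P.upSpan.getD l.1 []).map fun e => P.aPow e.2 (P.up.getD e.1 (0, 0)).1).foldr (· ^^^ ·) 0
      = 2 ^ l.1

/-- The size of the lower chain. -/
def lowCard : ℕ := (P.low.map fun e => e.2.length).prod

/-- The size of the upper chain. -/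
def upCard : ℕ := (P.up.map Prod.snd).prod

/-- The conjugation and the span of its translates. -/
def conjOK : Prop :=
  eqOK (P.aW ++ P.conjW) (P.conjW ++ P.aW) = true ∧
  eqOK (octWord ++ P.conjW)
    (P.conjW ++ (P.prodWord P.conjV.1 P.conjV.2.1 ++ bif P.conjV.2.2 then negWord else [])) = true ∧
  P.conjV.1 < 2 ^ P.dim ∧ P.conjV.1 ≠ 0 ∧
  ∀ j : Ix P.w,
    ((P.irrSpan.getD (pos j) []).all fun t => t.all fun i => decide (i < P.gens.length)) = true ∧
    ((P.irrSpan.getD (pos j) []).map fun t => P.actW t P.conjV.1).foldr (· ^^^ ·) 0 = 2 ^ pos j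

/-- All checks. -/
structure Checked : Prop where
  a : P.aOK
  y : P.yOK
  cq : P.cqOK
  gens : P.gensOK
  low : P.lowOK
  up : P.upOK
  conj : P.conjOK
  card : P.upCard = P.p * P.lowCard

end Params

end Cfsg.Agent.H41.CoSec
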