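import Cfsg.Agent.H92.LargeSimple
import Cfsg.Agent.H92.QuotInvolution

/-!
A group with an involution whose centraliser has an extraspecial 2-group as self-centralising
normal subgroup with simple quotient, the involution not being weakly closed there, is simple.
-/

set_option autoImplicit false

namespace Cfsg.Agent.H41.CoSec

open Subgroup
open Cfsg.Agent.H92

variable {G : Type*} [Group G]

/-- The hypotheses of the simplicity criterion. -/
structure Local (z g : G) (Q : Subgroup G) : Prop where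
  hzo : orderOf z = 2
  ext : Cfsg.IsExtraspecial 2 Q
  big : 32 ≤ Nat.card Q
  le : ∀ q ∈ Q, q * z = z * q
  hzQ : z ∈ Q
  cQ : ∀ c : G, (∀ q ∈ Q, q * c = c * q) → c = 1 ∨ c = z
  norm : ∀ c : G, c * z = z * c → ∀ q ∈ Q, c * q * c⁻¹ ∈ Q
  hgQ : g * z * g⁻¹ ∈ Q
  hgz : g * z * g⁻¹ ≠ z
  irr : ∀ D : Subgroup G, D ≤ Q → g * z * g⁻¹ ∈ D →
    (∀ c : G, c * z = z * c → ∀ d ∈ D, c * d * c⁻¹ ∈ D) → Q ≤ D
  top : ∀ N : Subgroup G, Q ≤ N → N ≤ centralizer ({z} : Set G) →
    (∀ c : G, c * z = z * c → ∀ n ∈ N, c * n * c⁻¹ ∈ N) → N = Q ∨ N = centralizer ({z} : Set G)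

namespace Local

variable [Finite G] {z g : G} {Q : Subgroup G} (L : Local z g Q)
include L

omit [Finite G] in
theorem zz : z * z = 1 := by
  rw [← pow_two, ← L.hzo, pow_orderOf_eq_one]

omit [Finite G] in
theorem z_ne_one : z ≠ 1 := fun e => by
  have := L.hzo
  rw [e, orderOf_one] at this
  omega

omit [Finite G] in
theorem center_mem : z ∈ (center Q).map Q.subtype :=
  ⟨⟨z, L.hzQ⟩, mem_center_iff.2 fun q => Subtype.ext (L.le q.1 q.2), rfl⟩

theorem comm {x y : G} (hx : x ∈ Q) (hy : y ∈ Q) :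
    x * y * x⁻¹ * y⁻¹ = 1 ∨ x * y * x⁻¹ * y⁻¹ = z :=
  comm_of_extraspecial L.ext L.center_mem L.z_ne_one hx hy

theorem exists_mover : ∃ q ∈ Q, q * (g * z * g⁻¹) * q⁻¹ = z * (g * z * g⁻¹) := by
  by_contra hne
  push Not at hne
  refine (L.cQ (g * z * g⁻¹) fun q hq => ?_).elim (fun e => ?_) L.hgz
  · rcases L.comm hq L.hgQ with e | e
    · exact mul_inv_eq_iff_eq_mul.1 (mul_inv_eq_one.1 e)
    · exact absurd (mul_inv_eq_iff_eq_mul.1 e) (hne q hq)
  · exact L.z_ne_one (conj_eq_one_iff.1 e)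

theorem z_mem_normal {N : Subgroup G} [hN : N.Normal] (hne : N ≠ ⊥) : z ∈ N := by
  by_contra hz
  have htriv : ∀ x ∈ N, x ∈ Q → x = 1 := by
    intro x hxN hxQ
    by_contra hx
    obtain ⟨q, hq, hqx⟩ : ∃ q ∈ Q, q * x ≠ x * q := by
      by_contra h
      push Not at h
      rcases L.cQ x h with e | e
      · exact hx e
      · exact hz (e ▸ hxN)
    rcases L.comm hq hxQ with e | e
    · exact hqx (mul_inv_eq_iff_eq_mul.1 (mul_inv_eq_one.1 e))
    · exact hz (e ▸ mul_mem (hN.conj_mem x hxN q) (inv_mem hxN))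
  have hfix : ∀ n ∈ N, n * z = z * n → n = 1 := by
    intro n hn hc
    refine (L.cQ n fun q hq => ?_).elim id fun e => absurd (e ▸ hn) hz
    have h1 : n * q * n⁻¹ * q⁻¹ ∈ N := by
      rw [mul_assoc, mul_assoc]
      exact mul_mem hn (by simpa [mul_assoc] using hN.conj_mem n⁻¹ (inv_mem hn) q)
    have h2 : n * q * n⁻¹ * q⁻¹ ∈ Q := mul_mem (L.norm n hc q hq) (inv_mem hq)
    exact (mul_inv_eq_iff_eq_mul.1 (mul_inv_eq_one.1 (htriv _ h1 h2))).symm
  have hinvz : ∀ n ∈ N, z * n * z⁻¹ = n⁻¹ := by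
    intro n hn
    have hzi : z⁻¹ = z := inv_eq_of_mul_eq_one_right L.zz
    set f : N → N := fun m => ⟨m.1⁻¹ * (z * m.1 * z⁻¹),
      mul_mem (inv_mem m.2) (hN.conj_mem _ m.2 z)⟩
    have hf : Function.Injective f := by
      intro a b e
      have e' : a.1⁻¹ * (z * a.1 * z⁻¹) = b.1⁻¹ * (z * b.1 * z⁻¹) := congrArg Subtype.val e
      refine Subtype.ext (eq_of_mul_inv_eq_one (b := b.1) ?_)
      refine hfix _ (mul_mem a.2 (inv_mem b.2)) ?_
      have : b.1 * a.1⁻¹ = (z * b.1 * z⁻¹) * (z * a.1 * z⁻¹)⁻¹ := by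
        calc b.1 * a.1⁻¹ = b.1 * (a.1⁻¹ * (z * a.1 * z⁻¹)) * (z * a.1 * z⁻¹)⁻¹ := by group
          _ = _ := by rw [e']; group
      calc a.1 * b.1⁻¹ * z = (b.1 * a.1⁻¹)⁻¹ * z := by group
        _ = z * (a.1 * b.1⁻¹) := by rw [this]; group
    obtain ⟨m, hm⟩ := Finite.surjective_of_injective hf ⟨n, hn⟩
    have hm' : m.1⁻¹ * (z * m.1 * z⁻¹) = n := congrArg Subtype.val hm
    rw [← hm', hzi]
    calc z * (m.1⁻¹ * (z * m.1 * z)) * z = z * m.1⁻¹ * (z * m.1 * (z * z)) := by group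
      _ = (z * m.1⁻¹ * z) * m.1 := by rw [L.zz]; group
      _ = _ := by
        simp only [mul_inv_rev, inv_inv, hzi, mul_assoc]
  have hall : ∀ y : G, ∀ n ∈ N, (y * z * y⁻¹) * n * (y * z * y⁻¹)⁻¹ = n⁻¹ := by
    intro y n hn
    have := hinvz (y⁻¹ * n * y) (by simpa using hN.conj_mem n hn y⁻¹)
    calc (y * z * y⁻¹) * n * (y * z * y⁻¹)⁻¹ = y * (z * (y⁻¹ * n * y) * z⁻¹) * y⁻¹ := by group
      _ = _ := by rw [this]; group
  obtain ⟨q, -, hq⟩ := L.exists_mover
  apply hne
  rw [eq_bot_iff]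
  intro n hn
  have h1 := hall (q * g) n hn
  rw [show q * g * z * (q * g)⁻¹ = q * (g * z * g⁻¹) * q⁻¹ by group, hq] at h1
  have h2 : z * ((g * z * g⁻¹) * n * (g * z * g⁻¹)⁻¹) * z⁻¹ = n⁻¹ := by
    rw [← h1]; simp only [mul_inv_rev, mul_assoc]
  rw [hall g n hn, hinvz _ (inv_mem hn), inv_inv] at h2
  refine mem_bot.2 (hfix n hn ?_)
  have h3 := hinvz n hn
  rw [← h2] at h3
  exact (mul_inv_eq_iff_eq_mul.1 h3).symm

theorem eq_top {N : Subgroup G} [hN : N.Normal] (hne : N ≠ ⊥) : N = ⊤ := by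
  have hzN := L.z_mem_normal hne
  have hQN : Q ≤ N := (L.irr (N ⊓ Q) inf_le_right ⟨hN.conj_mem z hzN g, L.hgQ⟩
    fun c hc d hd => ⟨hN.conj_mem d hd.1 c, L.norm c hc d hd.2⟩).trans inf_le_left
  have hQC : Q ≤ centralizer ({z} : Set G) := fun q hq =>
    mem_centralizer_singleton_iff.2 (L.le q hq)
  rcases L.top (N ⊓ centralizer ({z} : Set G)) (le_inf hQN hQC) inf_le_right
    (fun c hc n hn => by
      have hcC : c ∈ centralizer ({z} : Set G) := mem_centralizer_singleton_iff.2 hc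
      exact Subgroup.mem_inf.2 ⟨hN.conj_mem n hn.1 c, mul_mem (mul_mem hcC hn.2) (inv_mem hcC)⟩)
    with h | h
  · exfalso
    have hgg : ∀ r ∈ N, r * (g * z * g⁻¹) = (g * z * g⁻¹) * r → g⁻¹ * r * g ∈ Q := by
      intro r hr hc
      rw [← h]
      refine ⟨by simpa using hN.conj_mem r hr g⁻¹, mem_centralizer_singleton_iff.2 ?_⟩
      calc g⁻¹ * r * g * z = g⁻¹ * (r * (g * z * g⁻¹)) * g := by group
        _ = _ := by rw [hc]; group
    have hab : ∀ x ∈ Q, ∀ y ∈ Q, x * (g * z * g⁻¹) = (g * z * g⁻¹) * x →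
        y * (g * z * g⁻¹) = (g * z * g⁻¹) * y → x * y = y * x := by
      intro x hx y hy hxc hyc
      rcases L.comm hx hy with e | e
      · exact mul_inv_eq_iff_eq_mul.1 (mul_inv_eq_one.1 e)
      exfalso
      have e2 : g⁻¹ * x * g * (g⁻¹ * y * g) * (g⁻¹ * x * g)⁻¹ * (g⁻¹ * y * g)⁻¹
          = g⁻¹ * z * g := by
        rw [← e]; group
      rcases L.comm (hgg x (hQN hx) hxc) (hgg y (hQN hy) hyc) with e' | e' <;> rw [e2] at e'
      · have : g * (g⁻¹ * z * g) * g⁻¹ = g * 1 * g⁻¹ := by rw [e']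
        exact L.z_ne_one (by simpa [mul_assoc] using this)
      · apply L.hgz
        calc g * z * g⁻¹ = g * (g⁻¹ * z * g) * g⁻¹ := by rw [e']
          _ = z := by group
    obtain ⟨q, hq, hqz⟩ := L.exists_mover
    set R : Subgroup G := Q ⊓ centralizer ({g * z * g⁻¹} : Set G)
    have hR : ∀ {x}, x ∈ R ↔ x ∈ Q ∧ x * (g * z * g⁻¹) = (g * z * g⁻¹) * x := fun {x} =>
      ⟨fun hx => ⟨hx.1, mem_centralizer_singleton_iff.1 hx.2⟩,
        fun hx => ⟨hx.1, mem_centralizer_singleton_iff.2 hx.2⟩⟩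
    have hcov : ∀ x ∈ Q, x ∈ R ∨ q⁻¹ * x ∈ R := by
      intro x hx
      rcases L.comm hx L.hgQ with e | e
      · exact Or.inl (hR.2 ⟨hx, mul_inv_eq_iff_eq_mul.1 (mul_inv_eq_one.1 e)⟩)
      · refine Or.inr (hR.2 ⟨mul_mem (inv_mem hq) hx, ?_⟩)
        have ex := mul_inv_eq_iff_eq_mul.1 e
        calc q⁻¹ * x * (g * z * g⁻¹)
            = q⁻¹ * (x * (g * z * g⁻¹) * x⁻¹) * x := by group
          _ = q⁻¹ * (q * (g * z * g⁻¹) * q⁻¹) * x := by rw [ex, hqz]
          _ = _ := by group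
    -- the abelian maximal subgroup has order at most four
    have hzR : ∀ r ∈ R, r * q = q * r → r = 1 ∨ r = z := by
      intro r hr hrq
      refine L.cQ r fun x hx => ?_
      rcases hcov x hx with h1 | h1
      · exact hab x (hR.1 h1).1 r (hR.1 hr).1 (hR.1 h1).2 (hR.1 hr).2
      · have h2 := hab _ (hR.1 h1).1 r (hR.1 hr).1 (hR.1 h1).2 (hR.1 hr).2
        calc x * r = q * ((q⁻¹ * x) * r) := by group
          _ = (q * r) * (q⁻¹ * x) := by rw [h2]; group
          _ = _ := by rw [← hrq]; group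
    classical
    have hsmall : Nat.card R ≤ 4 := by
      rcases isEmpty_or_nonempty {r : R // r.1 * q ≠ q * r.1} with hE | ⟨⟨r0, h0⟩⟩
      · have hsub : (R : Set G) ⊆ {1, z} := fun r hr => by
          by_cases hc : r * q = q * r
          · simpa using hzR r hr hc
          · exact (hE.false ⟨⟨r, hr⟩, hc⟩).elim
        have := Set.ncard_le_ncard hsub (Set.toFinite _)
        have h2 : ({1, z} : Set G).ncard ≤ 2 := by
          refine (Set.ncard_insert_le _ _).trans ?_
          simp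
        rw [← Nat.card_coe_set_eq] at this
        exact (this.trans h2).trans (by norm_num)
      · have hsub : (R : Set G) ⊆ {1, z, r0.1, z * r0.1} := fun r hr => by
          by_cases hc : r * q = q * r
          · rcases hzR r hr hc with e | e <;> simp [e]
          · have hrr : r * r0.1⁻¹ ∈ R := mul_mem hr (inv_mem r0.2)
            have key : ∀ x ∈ R, x * q ≠ q * x → q * x * q⁻¹ = z * x := by
              intro x hx hne
              rcases L.comm hq (hR.1 hx).1 with e | e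
              · exact absurd (mul_inv_eq_iff_eq_mul.1 (mul_inv_eq_one.1 e)).symm hne
              · exact mul_inv_eq_iff_eq_mul.1 e
            have hcq : r * r0.1⁻¹ * q = q * (r * r0.1⁻¹) := by
              have : q * (r * r0.1⁻¹) * q⁻¹ = r * r0.1⁻¹ := by
                calc q * (r * r0.1⁻¹) * q⁻¹ = (q * r * q⁻¹) * (q * r0.1 * q⁻¹)⁻¹ := by group
                  _ = z * (r * r0.1⁻¹) * z⁻¹ := by rw [key r hr hc, key _ r0.2 h0]; group
                  _ = r * r0.1⁻¹ := by rw [← L.le _ (hR.1 hrr).1]; group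
              exact (mul_inv_eq_iff_eq_mul.1 this).symm
            rcases hzR _ hrr hcq with e | e <;> have e' := mul_inv_eq_iff_eq_mul.1 e <;> simp [e']
        have := Set.ncard_le_ncard hsub (Set.toFinite _)
        have h4 : ({1, z, r0.1, z * r0.1} : Set G).ncard ≤ 4 := by
          refine (Set.ncard_insert_le _ _).trans (Nat.succ_le_succ ?_)
          refine (Set.ncard_insert_le _ _).trans (Nat.succ_le_succ ?_)
          refine (Set.ncard_insert_le _ _).trans (Nat.succ_le_succ ?_)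
          simp
        rw [← Nat.card_coe_set_eq] at this
        exact this.trans h4
    have hQle : Nat.card Q ≤ 2 * Nat.card R := by
      have hsub : (Q : Set G) ⊆ (R : Set G) ∪ (q * ·) '' (R : Set G) := fun x hx => by
        rcases hcov x hx with h1 | h1
        · exact Or.inl h1
        · exact Or.inr ⟨_, h1, mul_inv_cancel_left q x⟩
      have := (Set.ncard_le_ncard hsub (Set.toFinite _)).trans (Set.ncard_union_le _ _)
      have h2 : ((q * ·) '' (R : Set G)).ncard ≤ (R : Set G).ncard := Set.ncard_image_le (Set.toFinite _)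
      have hR' : (R : Set G).ncard = Nat.card R := (Nat.card_coe_set_eq _).symm
      have hQ' : (Q : Set G).ncard = Nat.card Q := (Nat.card_coe_set_eq _).symm
      omega
    have := L.big
    omega
  · have hCN : centralizer ({z} : Set G) ≤ N := h ▸ inf_le_left
    exact eq_top_of_centralizer_center_le L.ext.1.1
      (fun x hx => L.cQ x fun q hq => mem_centralizer_iff.1 hx q hq) L.z_ne_one L.hzQ hCN hQN

theorem isSimpleGroup : IsSimpleGroup G := by
  have : Nontrivial G := ⟨⟨z, 1, L.z_ne_one⟩⟩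
  exact ⟨fun N hN => (em (N = ⊥)).imp_right fun h => L.eq_top (hN := hN) h⟩

theorem not_comm : ¬ IsMulCommutative G := by
  intro h
  obtain ⟨q, -, hq⟩ := L.exists_mover
  rw [Std.Commutative.comm (op := ((· * ·) : G → G → G)) q, mul_inv_cancel_right] at hq
  exact L.z_ne_one (mul_eq_right.1 hq.symm)

end Local

end Cfsg.Agent.H41.CoSec
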