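import Cfsg.Agent.H41.CoSec.Count
import Cfsg.Agent.H41.CoSec.Simple
import Cfsg.Agent.H92.ExtraIso
import Cfsg.Agent.Orthogonal.Index2Iso

/-!
The section of Co0 at a certified element: a simple group with a large extraspecial subgroup.
-/

set_option autoImplicit false

namespace Cfsg.Agent.H41.CoSec

open Cfsg Cfsg.Agent.Golay Cfsg.Agent.H92.LeechOrbit Cfsg.Agent.Orthogonal
open Cfsg.Agent.H92.CoTwoCent (octInv)
open Cfsg.Agent.H92.CoOneCent (centZero mem_centZero)
open scoped Matrix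

namespace Params

variable {P : Params}

/-- The subgroup of order `p`. -/
noncomputable def A (P : Params) : Subgroup Co0 := Subgroup.zpowers P.a

/-- Its centraliser. -/
noncomputable def cenA (P : Params) : Subgroup Co0 := Subgroup.centralizer (P.A : Set Co0)

/-- The part divided out. -/
noncomputable def divPart (P : Params) : Subgroup P.cenA :=
  (P.A ⊔ Subgroup.center Co0).subgroupOf P.cenA

theorem mem_cenA {g : Co0} : g ∈ P.cenA ↔ g * P.a = P.a * g := by
  rw [cenA, Subgroup.mem_centralizer_iff]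
  constructor
  · exact fun h => (h P.a (Subgroup.mem_zpowers _)).symm
  · rintro h _ ⟨k, rfl⟩
    exact (Commute.zpow_right (show Commute g P.a from h) k).symm

theorem exists_of_mem_sup {x : Co0} (h : x ∈ P.A ⊔ Subgroup.center Co0) :
    ∃ (i : ℕ) (b : Bool), x = P.a ^ i * sgn b := by
  have : Finite ↥Co0 := finite_co0
  obtain ⟨y, hy, z, hz, rfl⟩ := Subgroup.mem_sup_of_normal_right.1 h
  obtain ⟨i, rfl⟩ := mem_powers_iff_mem_zpowers.2 hy
  rcases H92.CoOneCent.center_cases hz with rfl | rfl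
  · exact ⟨i, false, rfl⟩
  · exact ⟨i, true, rfl⟩

theorem mem_sup_of (i : ℕ) (b : Bool) : P.a ^ i * sgn b ∈ P.A ⊔ Subgroup.center Co0 := by
  refine mul_mem (Subgroup.mem_sup_left (pow_mem (Subgroup.mem_zpowers _) i)) ?_
  cases b
  · exact one_mem _
  · exact Subgroup.mem_sup_right negAll_mem_center

theorem divPart_normal : P.divPart.Normal := by
  refine ⟨fun x hx g => ?_⟩
  rw [divPart, Subgroup.mem_subgroupOf] at hx ⊢
  obtain ⟨i, b, e⟩ := exists_of_mem_sup hx
  have hc : Commute (g : Co0) (P.a ^ i * sgn b) :=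
    ((Commute.pow_right (show Commute (g : Co0) P.a from mem_cenA.1 g.2) i)).mul_right
      (sgn_comm b (g : Co0)).symm
  show (g : Co0) * x.1 * (g : Co0)⁻¹ ∈ _
  rw [e, hc.eq, mul_inv_cancel_right]
  exact mem_sup_of i b

instance (P : Params) : P.divPart.Normal := divPart_normal

/-- The section. -/
abbrev Sect (P : Params) : Type := P.cenA ⧸ P.divPart

theorem pairC_le : P.pairC ≤ P.cenA := fun _ hg => mem_cenA.2 (mem_pairC.1 hg).2

/-- The projection. -/
noncomputable def proj (P : Params) : P.cenA →* Sect P := QuotientGroup.mk' P.divPart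

/-- The distinguished involution. -/
noncomputable def zS (h : P.Checked) : Sect P :=
  P.proj ⟨octInv, pairC_le (fixQ_le (oct_mem_fixQ h))⟩

/-- The extraspecial subgroup. -/
noncomputable def qS (P : Params) : Subgroup (Sect P) :=
  (P.proj.comp (Subgroup.inclusion (le_trans fixQ_le pairC_le : P.fixQ ≤ P.cenA))).range

theorem proj_eq_iff {u v : P.cenA} :
    P.proj u = P.proj v ↔ ∃ (i : ℕ) (b : Bool), v.1 = u.1 * (P.a ^ i * sgn b) := by
  rw [proj, QuotientGroup.mk'_eq_mk']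
  constructor
  · rintro ⟨z, hz, rfl⟩
    obtain ⟨i, b, e⟩ := exists_of_mem_sup (Subgroup.mem_subgroupOf.1 hz)
    exact ⟨i, b, by rw [Subgroup.coe_mul, e]⟩
  · rintro ⟨i, b, e⟩
    refine ⟨u⁻¹ * v, ?_, mul_inv_cancel_left u v⟩
    rw [divPart, Subgroup.mem_subgroupOf, Subgroup.coe_mul, Subgroup.coe_inv, e, inv_mul_cancel_left]
    exact mem_sup_of i b

theorem fix_eq (h : P.Checked) {q r : Co0} (hq : q ∈ P.fixQ) (hr : r ∈ P.fixQ) {i : ℕ} {b : Bool}
    (e : r = q * (P.a ^ i * sgn b)) : r = q := by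
  have hm : P.a ^ i * sgn b ∈ P.fixQ := by
    rw [show P.a ^ i * sgn b = q⁻¹ * r by rw [e, inv_mul_cancel_left]]
    exact mul_mem (inv_mem hq) hr
  obtain ⟨hd, hb⟩ := pow_sgn_mem_fixQ h hm
  rw [e, orderOf_dvd_iff_pow_eq_one.1 ((a_order h).symm ▸ hd), hb]
  simp [sgn]

theorem lift_mem (h : P.Checked) {u : P.cenA} (hu : P.proj u * zS h = zS h * P.proj u) :
    u.1 ∈ P.pairC := by
  rw [zS, ← map_mul, ← map_mul, eq_comm, proj_eq_iff] at hu
  obtain ⟨i, b, e⟩ := hu
  simp only [Subgroup.coe_mul] at e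
  have hac : Commute u.1 P.a := mem_cenA.1 u.2
  have hoa : Commute octInv P.a := (a_comm_oct h).symm
  have hk : Commute u.1 (P.a ^ i * sgn b) :=
    (hac.pow_right i).mul_right (sgn_comm b u.1).symm
  have hko : Commute octInv (P.a ^ i * sgn b) :=
    (hoa.pow_right i).mul_right (sgn_comm b octInv).symm
  have hconj : u.1 * octInv * u.1⁻¹ = octInv * (P.a ^ i * sgn b) := by
    rw [e, mul_assoc octInv u.1, hk.eq]; group
  have hsq : P.a ^ (2 * i) = 1 := by
    have h1 : (u.1 * octInv * u.1⁻¹) * (u.1 * octInv * u.1⁻¹) = 1 := by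
      rw [show (u.1 * octInv * u.1⁻¹) * (u.1 * octInv * u.1⁻¹) = u.1 * (octInv * octInv) * u.1⁻¹ by group,
        H92.CoTwoCent.octInv_sq, mul_one, mul_inv_cancel]
    rw [hconj, mul_assoc octInv, ← mul_assoc (P.a ^ i * sgn b), ← hko.eq, mul_assoc octInv,
      ← mul_assoc, H92.CoTwoCent.octInv_sq, one_mul] at h1
    rw [two_mul, pow_add]
    have hss : sgn b * sgn b = 1 := by cases b; exacts [one_mul _, negAll_sq]
    calc P.a ^ i * P.a ^ i = P.a ^ i * P.a ^ i * (sgn b * sgn b) := by rw [hss, mul_one]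
      _ = P.a ^ i * sgn b * (P.a ^ i * sgn b) := by
          rw [mul_assoc (P.a ^ i) (sgn b), ← mul_assoc (sgn b), sgn_comm b (P.a ^ i)]; group
      _ = 1 := h1
  rw [← orderOf_dvd_iff_pow_eq_one, a_order h] at hsq
  have hdi : P.p ∣ i := (h.a.1.dvd_mul.1 hsq).resolve_left fun h2 => by
    have := (Nat.prime_dvd_prime_iff_eq h.a.1 Nat.prime_two).1 h2
    have := h.a.2.1
    omega
  rw [orderOf_dvd_iff_pow_eq_one.1 ((a_order h).symm ▸ hdi), one_mul] at e
  refine mem_pairC.2 ⟨mem_centZero.2 ?_, hac⟩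
  cases b
  · rw [e]; simp [sgn]
  · exact absurd e (H92.CoOneCent.not_anticommute u.1)

theorem orderOf_zS (h : P.Checked) : orderOf (zS h) = 2 := by
  refine orderOf_eq_prime ?_ ?_
  · rw [zS, ← map_pow, pow_two]
    convert map_one P.proj
    exact Subtype.ext H92.CoTwoCent.octInv_sq
  · intro e
    rw [zS, ← map_one P.proj, proj_eq_iff] at e
    obtain ⟨i, b, e⟩ := e
    exact H92.CoTwoCent.octInv_ne_one (fix_eq h (oct_mem_fixQ h) (one_mem _) e).symm

theorem qS_le (h : P.Checked) : P.qS ≤ Subgroup.centralizer ({zS h} : Set (Sect P)) := by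
  rintro _ ⟨q, rfl⟩
  rw [Subgroup.mem_centralizer_singleton_iff, zS]
  show P.proj _ * _ = _ * P.proj _
  rw [← map_mul, ← map_mul]
  exact congrArg P.proj (Subtype.ext (oct_comm (kerSub_le (mem_fixQ.1 q.2).1)))

theorem isExtraspecial_fixQ (h : P.Checked) : Cfsg.IsExtraspecial 2 P.fixQ := by
  have : Finite ↥Co0 := finite_co0
  have hval : ∀ {x y : P.fixQ}, x.1 = y.1 → x = y := fun e => Subtype.ext e
  let ζ : P.fixQ := ⟨octInv, oct_mem_fixQ h⟩
  have hsq : ∀ x : P.fixQ, x * x = 1 ∨ x * x = ζ := fun x =>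
    (kerSub_sq (mem_fixQ.1 x.2).1).imp (fun e => hval e) (fun e => hval e)
  refine H92.isExtraspecial_of_center_two ?_ (ζ := ζ)
    (fun e => H92.CoTwoCent.octInv_ne_one (congrArg Subtype.val e))
    (fun y => hval (oct_comm (kerSub_le (mem_fixQ.1 y.2).1))) ?_ ?_ hsq ?_
  · exact IsPGroup.of_card (fixQ_facts h).1
  · intro x hx
    refine ((fixQ_facts h).2.1 x.1 x.2 (funext fun i => ?_)).imp (fun e => hval e) (fun e => hval e)
    have e : P.y (flip' i) * x.1 = x.1 * P.y (flip' i) :=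
      congrArg Subtype.val (hx ⟨_, y_mem h (flip' i)⟩)
    rw [pc, if_pos e.symm]
    rfl
  · exact fun x y => (kerSub_comm (mem_fixQ.1 x.2).1 (mem_fixQ.1 y.2).1).imp
      (fun e => hval e) (fun e => hval e)
  · rw [(fixQ_facts h).1]
    calc 2 < 2 ^ 2 := by norm_num
      _ ≤ _ := Nat.pow_le_pow_right (by norm_num) (by rw [dim]; omega)

/-- The extraspecial group maps isomorphically. -/
noncomputable def qEquiv (h : P.Checked) : P.fixQ ≃* P.qS :=
  MonoidHom.ofInjective (f := P.proj.comp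
      (Subgroup.inclusion (le_trans fixQ_le pairC_le : P.fixQ ≤ P.cenA))) (fun q r e => by
    obtain ⟨i, b, e'⟩ := proj_eq_iff.1 (e : P.proj _ = P.proj _)
    exact Subtype.ext (fix_eq h q.2 r.2 e').symm)

/-- The centraliser of the involution as an image. -/
noncomputable def centHom (h : P.Checked) :
    P.pairC →* Subgroup.centralizer ({zS h} : Set (Sect P)) :=
  (P.proj.comp (Subgroup.inclusion pairC_le)).codRestrict _ fun g => by
    rw [Subgroup.mem_centralizer_singleton_iff, zS]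
    show P.proj _ * _ = _ * P.proj _
    rw [← map_mul, ← map_mul]
    exact congrArg P.proj (Subtype.ext (mem_centZero.1 (mem_pairC.1 g.2).1))

theorem centHom_surjective (h : P.Checked) : Function.Surjective (centHom h) := by
  rintro ⟨x, hx⟩
  obtain ⟨u, rfl⟩ := QuotientGroup.mk'_surjective P.divPart x
  exact ⟨⟨u.1, lift_mem h (Subgroup.mem_centralizer_singleton_iff.1 hx)⟩, rfl⟩

theorem range_psi (h : P.Checked)
    (hΩ : Nat.card ↥(Cfsg.Omega (ZMod 2) (Cfsg.quadFormMinus P.w (ZMod 2) 1 1)) = P.lowCard)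
    (hO : Nat.card ↥(Cfsg.isometryGroup (ZMod 2) (Cfsg.quadFormMinus P.w (ZMod 2) 1 1)) = 2 * P.lowCard) :
    (psi h).range = Cfsg.Omega (ZMod 2) (Cfsg.quadFormMinus P.w (ZMod 2) 1 1) := by
  have : Finite ↥Co0 := finite_co0
  have hr := (psi_facts h).1
  have hpos : 0 < P.lowCard := hr ▸ Nat.card_pos
  have hidx : (psi h).range.index = 2 := by
    have := Subgroup.card_mul_index (psi h).range
    rw [hr, hO, mul_comm 2] at this
    exact Nat.eq_of_mul_eq_mul_left hpos this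
  have : Finite (Cfsg.isometryGroup (ZMod 2) (Cfsg.quadFormMinus P.w (ZMod 2) 1 1)) :=
    Finite.of_injective _ Subtype.val_injective
  exact (Subgroup.eq_of_le_of_card_ge (Orthogonal.commutator_le_of_index_two _ hidx)
    (by rw [hr, hΩ])).symm

theorem section_exists (h : P.Checked) (hw : 1 ≤ P.w)
    (hΩ : Nat.card ↥(Cfsg.Omega (ZMod 2) (Cfsg.quadFormMinus P.w (ZMod 2) 1 1)) = P.lowCard)
    (hO : Nat.card ↥(Cfsg.isometryGroup (ZMod 2) (Cfsg.quadFormMinus P.w (ZMod 2) 1 1)) = 2 * P.lowCard)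
    (hsimp : IsSimpleGroup ↥(Cfsg.Omega (ZMod 2) (Cfsg.quadFormMinus P.w (ZMod 2) 1 1)))
    (hnc : Subgroup.center ↥(Cfsg.Omega (ZMod 2) (Cfsg.quadFormMinus P.w (ZMod 2) 1 1)) = ⊥)
    {p e : ℕ} (hp : P.p = p) (he : 2 * P.w + 3 = e) :
    ∃ A : Subgroup ↥Cfsg.Co0, Nat.card A = p ∧
      ∃ (hn : ((A ⊔ Subgroup.center ↥Cfsg.Co0).subgroupOf (Subgroup.centralizer (A : Set ↥Cfsg.Co0))).Normal),
      ∃ (S : Type) (_ : Group S) (_ : Finite S),
        Nonempty (S ≃* ↥(Subgroup.centralizer (A : Set ↥Cfsg.Co0)) ⧸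
          (A ⊔ Subgroup.center ↥Cfsg.Co0).subgroupOf (Subgroup.centralizer (A : Set ↥Cfsg.Co0))) ∧
        IsSimpleGroup S ∧ ¬ IsMulCommutative S ∧ ∃ z : S, orderOf z = 2 ∧
          ∃ (Q : Subgroup (Subgroup.centralizer ({z} : Set S))) (_ : Q.Normal),
            Cfsg.generalizedFittingSubgroup (Subgroup.centralizer ({z} : Set S)) = Q ∧
            Cfsg.IsExtraspecial 2 Q ∧ Nat.card Q = 2 ^ e ∧
            Nonempty ((Subgroup.centralizer ({z} : Set S)) ⧸ Q ≃*
              Cfsg.Omega (ZMod 2) (Cfsg.quadFormMinus P.w (ZMod 2) 1 1)) ∧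
            ∃ g : S, (∃ hq : g * z * g⁻¹ ∈ Subgroup.centralizer ({z} : Set S),
              (⟨g * z * g⁻¹, hq⟩ : Subgroup.centralizer ({z} : Set S)) ∈ Q) ∧ g * z * g⁻¹ ≠ z := by
  subst hp he
  have : Finite ↥Co0 := finite_co0
  have : Fact (Nat.Prime 2) := ⟨Nat.prime_two⟩
  have hrange := range_psi h hΩ hO
  set Ω := Cfsg.Omega (ZMod 2) (Cfsg.quadFormMinus P.w (ZMod 2) 1 1)
  let psiO : P.pairC →* Ω := (psi h).codRestrict _ fun g => hrange ▸ ⟨g, rfl⟩
  have hψsurj : Function.Surjective psiO := by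
    rintro ⟨y, hy⟩
    rw [← hrange] at hy
    obtain ⟨x, rfl⟩ := hy
    exact ⟨x, rfl⟩
  let chi : Subgroup.centralizer ({zS h} : Set (Sect P)) →* Ω :=
    (centHom h).liftOfSurjective (centHom_surjective h) ⟨psiO, fun g hg => by
      rw [MonoidHom.mem_ker] at hg ⊢
      have e : P.proj 1 = P.proj ⟨g.1, pairC_le g.2⟩ :=
        (map_one _).trans (congrArg Subtype.val hg).symm
      obtain ⟨i, b, e⟩ := proj_eq_iff.1 e
      simp only [OneMemClass.coe_one, one_mul] at e
      obtain ⟨hm, h1⟩ := basic_mem h i b (one_mem P.fixQ)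
      refine Subtype.ext ?_
      show psi h g = 1
      rw [← h1]
      exact congrArg _ (Subtype.ext (e.trans (mul_one _).symm))⟩
  have hchi : ∀ g, chi (centHom h g) = psiO g :=
    fun g => MonoidHom.liftOfRightInverse_comp_apply _ _ _ _ g
  have hsurj : Function.Surjective chi := fun y => by
    obtain ⟨g, rfl⟩ := hψsurj y
    exact ⟨_, hchi g⟩
  have hker : chi.ker = P.qS.subgroupOf (Subgroup.centralizer ({zS h} : Set (Sect P))) := by
    ext x
    obtain ⟨g, rfl⟩ := centHom_surjective h x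
    rw [MonoidHom.mem_ker, hchi, Subgroup.mem_subgroupOf]
    constructor
    · intro hg
      obtain ⟨i, b, q, hq, e⟩ := (psi_facts h).2 g (congrArg Subtype.val hg)
      refine ⟨⟨q, hq⟩, proj_eq_iff.2 ⟨i, b, ?_⟩⟩
      show g.1 = q * (P.a ^ i * sgn b)
      rw [e]
      exact ((Commute.pow_left (mem_fixQ.1 hq).2.symm i).mul_left (sgn_comm b q)).eq
    · rintro ⟨q, hq⟩
      obtain ⟨i, b, e⟩ := proj_eq_iff.1 (hq : P.proj _ = P.proj _)
      obtain ⟨hm, h1⟩ := basic_mem h i b q.2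
      refine Subtype.ext ?_
      show psi h g = 1
      rw [← h1]
      refine congrArg _ (Subtype.ext ?_)
      refine e.trans ?_
      exact ((Commute.pow_left (mem_fixQ.1 q.2).2.symm i).mul_left (sgn_comm b q.1)).eq.symm
  set Q := P.qS.subgroupOf (Subgroup.centralizer ({zS h} : Set (Sect P))) with hQdef
  have hQn : Q.Normal := hker ▸ MonoidHom.normal_ker chi
  have hQext : Cfsg.IsExtraspecial 2 P.qS :=
    H92.isExtraspecial_of_mulEquiv (qEquiv h) (isExtraspecial_fixQ h)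
  have hQcard : Nat.card P.qS = 2 ^ (2 * P.w + 3) := by
    rw [← Nat.card_congr (qEquiv h).toEquiv, (fixQ_facts h).1]
    rfl
  have hzQ : zS h ∈ P.qS := ⟨⟨octInv, oct_mem_fixQ h⟩, rfl⟩
  have hcQ : ∀ c : Sect P, (∀ q ∈ P.qS, q * c = c * q) → c = 1 ∨ c = zS h := by
    intro c hc
    obtain ⟨u, rfl⟩ := QuotientGroup.mk'_surjective P.divPart c
    have hu := lift_mem h (u := u) (hc _ hzQ).symm
    have hfix : ∀ q ∈ P.fixQ, u.1 * q * u.1⁻¹ = q := by
      intro q hq
      have hc' := hc _ ⟨⟨q, hq⟩, rfl⟩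
      have e : P.proj ⟨q, pairC_le (fixQ_le hq)⟩ = P.proj ⟨u.1 * q * u.1⁻¹, mul_mem (mul_mem u.2
          (pairC_le (fixQ_le hq))) (inv_mem u.2)⟩ := by
        rw [show (⟨u.1 * q * u.1⁻¹, _⟩ : P.cenA) = u * ⟨q, pairC_le (fixQ_le hq)⟩ * u⁻¹ from rfl,
          map_mul, map_mul, map_inv, eq_mul_inv_iff_mul_eq]
        exact hc'
      obtain ⟨i, b, e'⟩ := proj_eq_iff.1 e
      exact fix_eq h hq (conj_fixQ hu hq) e'
    obtain ⟨i, b, q, hq, e⟩ := (psi_facts h).2 ⟨u.1, hu⟩
      ((psi_eq_one_iff h _).2 fun q hq => by rw [hfix q hq])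
    have hqc : ∀ r ∈ P.fixQ, q * r = r * q := by
      intro r hr
      have h1 := hfix r hr
      have hk : Commute (P.a ^ i * sgn b) (q * r * q⁻¹) :=
        ((Commute.pow_left (mem_fixQ.1 (conj_fixQ (fixQ_le hq) hr)).2.symm i)).mul_left (sgn_comm b _)
      rw [e, show P.a ^ i * sgn b * q * r * (P.a ^ i * sgn b * q)⁻¹
        = (P.a ^ i * sgn b) * (q * r * q⁻¹) * (P.a ^ i * sgn b)⁻¹ by group, hk.eq,
        mul_inv_cancel_right] at h1
      exact mul_inv_eq_iff_eq_mul.1 h1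
    have h0 : P.pc q = 0 := funext fun j => by
      rw [pc, if_pos (hqc _ (y_mem h _))]
      rfl
    have he : u.1 = q * (P.a ^ i * sgn b) := by
      refine e.trans ?_
      exact ((Commute.pow_left (mem_fixQ.1 hq).2.symm i).mul_left (sgn_comm b q)).eq
    rcases (fixQ_facts h).2.1 q hq h0 with rfl | rfl
    · left
      rw [← map_one (QuotientGroup.mk' P.divPart)]
      exact (proj_eq_iff.2 ⟨i, b, he⟩).symm
    · right
      exact (proj_eq_iff.2 ⟨i, b, he⟩).symm
  -- the conjugate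
  obtain ⟨hca, hco, hv0, hvne, hspan⟩ := h.conj
  set cg := wordEl P.conjW
  have hcg : cg ∈ P.cenA := by
    have e := eq_of_eqOK hca
    rw [CoTwo.wordEl_append, CoTwo.wordEl_append] at e
    exact mem_cenA.2 e
  obtain ⟨hpm, hpv⟩ := prodWord_spec h hv0 P.conjV.2.1
  set x0 := wordEl (P.prodWord P.conjV.1 P.conjV.2.1)
  have hgz : P.proj ⟨cg, hcg⟩ * zS h * (P.proj ⟨cg, hcg⟩)⁻¹
      = P.proj ⟨x0, pairC_le (fixQ_le hpm)⟩ := by
    rw [zS, ← map_mul, ← map_inv, ← map_mul, eq_comm, proj_eq_iff]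
    refine ⟨0, P.conjV.2.2, ?_⟩
    rw [pow_zero, one_mul]
    show cg * octInv * cg⁻¹ = x0 * sgn P.conjV.2.2
    have e := eq_of_eqOK hco
    rw [CoTwo.wordEl_append, CoTwo.wordEl_append, CoTwo.wordEl_append, wordEl_octWord] at e
    have hs : wordEl (bif P.conjV.2.2 then negWord else []) = sgn P.conjV.2.2 := by
      cases P.conjV.2.2
      · rfl
      · exact wordEl_negWord
    rw [hs, sgn_comm _ x0] at e
    exact mul_inv_eq_iff_eq_mul.2 e
  have hgQ : P.proj ⟨cg, hcg⟩ * zS h * (P.proj ⟨cg, hcg⟩)⁻¹ ∈ P.qS := hgz ▸ ⟨⟨x0, hpm⟩, rfl⟩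
  have hgne : P.proj ⟨cg, hcg⟩ * zS h * (P.proj ⟨cg, hcg⟩)⁻¹ ≠ zS h := by
    rw [hgz, zS]
    intro e
    obtain ⟨i, b, e'⟩ := proj_eq_iff.1 e
    have hx := fix_eq h hpm (oct_mem_fixQ h) e'
    rw [← hx, pc_oct h, ← vecW_zero P.w] at hpv
    exact hvne (vecW_injective hv0 (pow_pos (by norm_num) _) hpv.symm)
  have hnorm : ∀ c : Sect P, c * zS h = zS h * c → ∀ q ∈ P.qS, c * q * c⁻¹ ∈ P.qS := by
    intro c hc q hq
    obtain ⟨u, rfl⟩ := QuotientGroup.mk'_surjective P.divPart c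
    obtain ⟨r, rfl⟩ := hq
    refine ⟨⟨u.1 * r.1 * u.1⁻¹, conj_fixQ (lift_mem h hc) r.2⟩, ?_⟩
    show P.proj _ = P.proj u * P.proj _ * (P.proj u)⁻¹
    rw [← map_mul, ← map_inv, ← map_mul]
    rfl
  have hL : Local (zS h) (P.proj ⟨cg, hcg⟩) P.qS := by
    refine ⟨orderOf_zS h, hQext, ?_, fun q hq => Subgroup.mem_centralizer_singleton_iff.1 (qS_le h hq),
      hzQ, hcQ, hnorm, hgQ, hgne, ?_, ?_⟩
    · rw [hQcard]
      calc 32 = 2 ^ 5 := by norm_num
        _ ≤ _ := Nat.pow_le_pow_right (by norm_num) (by omega)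
    · intro D hD hgD hinv
      rw [hgz] at hgD
      let pr : P.fixQ →* Sect P :=
        P.proj.comp (Subgroup.inclusion (le_trans fixQ_le pairC_le : P.fixQ ≤ P.cenA))
      let D' : Subgroup Co0 := (D.comap pr).map P.fixQ.subtype
      have hmemD : ∀ {q} (hq : q ∈ P.fixQ), q ∈ D' ↔ pr ⟨q, hq⟩ ∈ D := by
        intro q hq
        constructor
        · rintro ⟨r, hr, rfl⟩; exact hr
        · intro hr; exact ⟨⟨q, hq⟩, hr, rfl⟩
      have hx0 : x0 ∈ D' := (hmemD hpm).2 hgD
      have hD'le : ∀ {q}, q ∈ D' → q ∈ P.fixQ := by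
        rintro q ⟨r, -, rfl⟩; exact r.2
      have hconjD : ∀ {g q}, g ∈ P.pairC → q ∈ D' → g * q * g⁻¹ ∈ D' := by
        intro g q hg hq
        refine (hmemD (conj_fixQ hg (hD'le hq))).2 ?_
        have hz : P.proj ⟨g, pairC_le hg⟩ * zS h = zS h * P.proj ⟨g, pairC_le hg⟩ :=
          Subgroup.mem_centralizer_singleton_iff.1 (centHom h ⟨g, hg⟩).2
        have := hinv _ hz _ ((hmemD (hD'le hq)).1 hq)
        have e : pr ⟨g * q * g⁻¹, conj_fixQ hg (hD'le hq)⟩
            = P.proj ⟨g, pairC_le hg⟩ * pr ⟨q, hD'le hq⟩ * (P.proj ⟨g, pairC_le hg⟩)⁻¹ := by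
          show P.proj _ = P.proj _ * P.proj _ * (P.proj _)⁻¹
          rw [← map_mul, ← map_inv, ← map_mul]
          rfl
        rw [e]; exact this
      have ho : octInv ∈ D' := by
        obtain ⟨q, hq, hne⟩ : ∃ q ∈ P.fixQ, q * x0 ≠ x0 * q := by
          by_contra hall
          push Not at hall
          have h0 : P.pc x0 = 0 := funext fun j => by
            rw [pc, if_pos (hall _ (y_mem h _)).symm]; rfl
          rw [hpv, ← vecW_zero P.w] at h0
          exact hvne (vecW_injective hv0 (pow_pos (by norm_num) _) h0)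
        rcases kerSub_comm (mem_fixQ.1 hq).1 (mem_fixQ.1 hpm).1 with e | e
        · exact absurd (mul_inv_eq_iff_eq_mul.1 (mul_inv_eq_one.1 e)) hne
        · exact e ▸ mul_mem (hconjD (fixQ_le hq) hx0) (inv_mem hx0)
      have hrep : ∀ t : List ℕ, (∀ i ∈ t, i < P.gens.length) →
          ∃ q ∈ D', P.pc q = vecW P.w (P.actW t P.conjV.1) := by
        intro t ht
        obtain ⟨hm, hact⟩ := lEl_spec h ht
        exact ⟨P.lEl t * x0 * (P.lEl t)⁻¹, hconjD hm hx0,
          by rw [pc_conj h hm hpm, hpv, (hact hv0).2]⟩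
      have hy : ∀ j, P.y j ∈ D' := by
        intro j
        obtain ⟨hlt, he⟩ := hspan j
        have hl : ∀ l : List (List ℕ), (∀ t ∈ l, ∀ i ∈ t, i < P.gens.length) →
            ∃ q ∈ D', P.pc q = vecW P.w ((l.map fun t => P.actW t P.conjV.1).foldr (· ^^^ ·) 0) := by
          intro l hl
          induction l with
          | nil => exact ⟨1, one_mem _, by rw [List.map_nil, List.foldr_nil, pc_one, vecW_zero]⟩
          | cons t l ih =>
            obtain ⟨q, hq, hqv⟩ := hrep t (hl t (List.mem_cons_self ..))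
            obtain ⟨r, hr, hrv⟩ := ih fun u hu => hl u (List.mem_cons_of_mem _ hu)
            exact ⟨q * r, mul_mem hq hr, by
              rw [pc_mul h (hD'le hq) (hD'le hr), hqv, hrv, List.map_cons, List.foldr_cons, vecW_xor]⟩
        obtain ⟨q, hq, hqv⟩ := hl _ fun t ht i hi =>
          of_decide_eq_true (List.all_eq_true.1 (List.all_eq_true.1 hlt t ht) i hi)
        rw [he, vecW_two_pow] at hqv
        have hqf := hD'le hq
        have h0 : P.pc (q⁻¹ * P.y j) = 0 := by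
          have := pc_mul h hqf (mul_mem (inv_mem hqf) (y_mem h j))
          rw [mul_inv_cancel_left, pc_y h, hqv] at this
          exact left_eq_add.1 this
        rcases (fixQ_facts h).2.1 _ (mul_mem (inv_mem hqf) (y_mem h j)) h0 with e | e
        · rw [← inv_mul_eq_one.1 e]; exact hq
        · rw [inv_mul_eq_iff_eq_mul.1 e]; exact mul_mem hq ho
      rintro _ ⟨q, rfl⟩
      exact (hmemD q.2).1 (fixQ_induction h (motive := fun q => q ∈ D') (one_mem _) ho hy
        (fun _ _ _ _ => mul_mem) q.2)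
    · intro N hQN hNC hinv
      let N' := N.subgroupOf (Subgroup.centralizer ({zS h} : Set (Sect P)))
      have hN' : N'.Normal := ⟨fun n hn g => by
        rw [Subgroup.mem_subgroupOf] at hn ⊢
        exact hinv g.1 (Subgroup.mem_centralizer_singleton_iff.1 g.2) n.1 hn⟩
      rcases Subgroup.Normal.eq_bot_or_eq_top (hN'.map chi hsurj) with e | e
      · left
        refine le_antisymm (fun x hx => ?_) hQN
        have : (⟨x, hNC hx⟩ : Subgroup.centralizer ({zS h} : Set (Sect P))) ∈ chi.ker :=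
          Subgroup.mem_bot.1 (e ▸ Subgroup.mem_map_of_mem chi (show (⟨x, hNC hx⟩ :
            Subgroup.centralizer ({zS h} : Set (Sect P))) ∈ N' from hx))
        rw [hker] at this
        exact this
      · right
        refine le_antisymm hNC fun x hx => ?_
        obtain ⟨n, hn, en⟩ : chi ⟨x, hx⟩ ∈ N'.map chi := e ▸ Subgroup.mem_top _
        have hk : n⁻¹ * ⟨x, hx⟩ ∈ chi.ker := by
          rw [MonoidHom.mem_ker, map_mul, map_inv, en, inv_mul_cancel]
        rw [hker] at hk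
        have := N.mul_mem (show n.1 ∈ N from hn) (hQN (show (n⁻¹ * ⟨x, hx⟩ :
          Subgroup.centralizer ({zS h} : Set (Sect P))).1 ∈ P.qS from hk))
        simpa using this
  have hcen : Subgroup.centralizer (Q : Set (Subgroup.centralizer ({zS h} : Set (Sect P)))) ≤ Q := by
    intro c hc
    rcases hcQ c.1 fun q hq => congrArg Subtype.val (Subgroup.mem_centralizer_iff.1 hc
      ⟨q, qS_le h hq⟩ hq) with e | e
    · show c.1 ∈ P.qS
      rw [e]; exact one_mem _
    · show c.1 ∈ P.qS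
      rw [e]; exact hzQ
  have hfit : Cfsg.generalizedFittingSubgroup (Subgroup.centralizer ({zS h} : Set (Sect P))) = Q := by
    have hnil : Group.IsNilpotent Q := by
      refine IsPGroup.isNilpotent (p := 2) (IsPGroup.of_card (n := 2 * P.w + 3) ?_)
      rw [Nat.card_congr (Subgroup.subgroupOfEquivOfLe (qS_le h)).toEquiv, hQcard]
    refine le_antisymm (Components.genFitting_le_of_centralizer_le _ ?_ hcen)
      ((le_sSup (show Q ∈ {N : Subgroup (Subgroup.centralizer ({zS h} : Set (Sect P))) |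
        N.Normal ∧ Group.IsNilpotent N} from ⟨hQn, hnil⟩)).trans le_sup_right)
    intro x hx
    set F := Cfsg.fittingSubgroup (Subgroup.centralizer ({zS h} : Set (Sect P)))
    rcases Subgroup.Normal.eq_bot_or_eq_top
      (Subgroup.Normal.map (H := F) inferInstance chi hsurj) with e | e
    · rw [← hker]
      exact MonoidHom.mem_ker.2 (Subgroup.mem_bot.1 (e ▸ ⟨x, hx, rfl⟩))
    exfalso
    have hΩnil : Group.IsNilpotent Ω := by
      refine Group.nilpotent_of_surjective (G := F) (chi.comp F.subtype) fun y => ?_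
      obtain ⟨a, ha, rfl⟩ : y ∈ F.map chi := e ▸ Subgroup.mem_top y
      exact ⟨⟨a, ha⟩, rfl⟩
    have : Nontrivial Ω := IsSimpleGroup.toNontrivial
    exact Group.IsNilpotent.center_ne_bot Ω hnc
  refine ⟨P.A, by rw [A, Nat.card_zpowers, a_order h], divPart_normal, Sect P, inferInstance,
    inferInstance, ⟨MulEquiv.refl _⟩, hL.isSimpleGroup, hL.not_comm, zS h, orderOf_zS h, Q, hQn,
    hfit, H92.isExtraspecial_of_mulEquiv (Subgroup.subgroupOfEquivOfLe (qS_le h)).symm hQext, ?_,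
    ⟨(QuotientGroup.quotientMulEquivOfEq hker.symm).trans
      (QuotientGroup.quotientKerEquivOfSurjective chi hsurj)⟩,
    P.proj ⟨cg, hcg⟩, ⟨qS_le h hgQ, hgQ⟩, hgne⟩
  rw [Nat.card_congr (Subgroup.subgroupOfEquivOfLe (qS_le h)).toEquiv, hQcard]

end Params

end Cfsg.Agent.H41.CoSec
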