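import Cfsg.Agent.H41.CoSec.Params
import Cfsg.Agent.H41.CoSec.ThreeData

/-!
The checks for the element of order three.
-/

set_option autoImplicit false

namespace Cfsg.Agent.H41.CoSec.ThreeData

open Cfsg.Agent.H41.CoSec

/-- The parameters. -/
def params : Params :=
  ⟨2, 3, aW, aImg, aCols, yKey, cqList, gens, lowChain, upChain, upSpan, conjW, conjV, irrSpan⟩

theorem a_ok : params.aOK :=
  ⟨by decide, by decide, by decide +kernel, by decide +kernel, by decide +kernel,
    (by decide +kernel : ∀ _, _), (by decide +kernel : ∀ _, _), by decide +kernel⟩

theorem y_ok : params.yOK := by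
  unfold Params.yOK; decide +kernel

theorem cq_ok : params.cqOK :=
  ⟨by decide +kernel, by decide +kernel, by decide +kernel⟩

theorem gens_ok : params.gensOK := by
  unfold Params.gensOK; decide +kernel

theorem low_ok : params.lowOK := by
  unfold Params.lowOK; decide +kernel

theorem up_ok : params.upOK := by
  unfold Params.upOK; decide +kernel

theorem conj_ok : params.conjOK := by
  unfold Params.conjOK; decide +kernel

theorem card_ok : params.upCard = params.p * params.lowCard := by decide +kernel

theorem checked : params.Checked :=
  ⟨a_ok, y_ok, cq_ok, gens_ok, low_ok, up_ok, conj_ok, card_ok⟩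

end Cfsg.Agent.H41.CoSec.ThreeData
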